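import Cfsg.Agent.SuzSection.Main

/-!
The section of the first Conway group centralising the element of order three is a simple group with
a large extraspecial subgroup, and lifts to the automorphism group of the lattice.
-/

set_option autoImplicit false
set_option maxRecDepth 100000
set_option maxHeartbeats 1000000
set_option linter.style.haveILetI false

namespace CfsgLib.SuzSection

open Cfsg CfsgLib CfsgLib.Golay CfsgLib.Co1Cent Subgroup
open CfsgLib.Quad (oGroup)

attribute [local irreducible] CfsgLib.Leech.shortVecs CfsgLib.Leech.halfTable CfsgLib.Leech.quarterTable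

/-- The extraspecial subgroup in the whole group. -/
noncomputable abbrev QC : Subgroup Spor.Co1 := qC.map c1.subtype

theorem extraspecial_QC : Cfsg.IsExtraspecial 2 QC := by
  haveI := finite_qp
  haveI : Finite qC := Finite.of_equiv _ qEquiv.toEquiv
  exact LargeExtra.isExtraspecial_equiv (qC.equivMapOfInjective _ c1.subtype_injective)
    (LargeExtra.isExtraspecial_equiv qEquiv extraspecial_qp)

theorem pre_QC : LargeExtra.Pre QC zC :=
  LargeExtra.pre_of_fstar orderOf_zC (by rw [Co1Cent.fstar]) extraspecial_QC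

theorem act_inj {g : c1} {x : c1} (hx : x ∈ qC) {v : V} (h : (theta g).1 (crd x) = v) :
    g * x * g⁻¹ = E v ∨ g * x * g⁻¹ = zQ * E v := by
  rw [theta_crd g hx] at h
  exact h ▸ crd_spec (conj_mem g hx)

/-- A singular vector of the six-dimensional summand. -/
def sVec : I6 → ZMod 2 := Sum.elim (Sum.elim ![1, 0] 0) 0

theorem sVec_spec : sVec ≠ 0 ∧ q6 sVec = 0 := by
  constructor
  · decide +kernel
  · rw [Quad.minusQ_coe]
    simp only [Cfsg.quadFormMinus, sVec]
    decide +kernel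

theorem exists_conj_Rc : ∃ g : Spor.Co1, ∃ r : cC, r ∈ Rc ∧ r ≠ 1 ∧ r ≠ z6 ∧
    g * zC * g⁻¹ = ((r : c1) : Spor.Co1) := by
  haveI := finite_c1
  obtain ⟨g, ⟨hq, hmem⟩, hne⟩ := weakly_closed_fails
  set x : c1 := ⟨g * zC * g⁻¹, hq⟩ with hxdef
  have hz2 : zC * zC = 1 := by rw [← pow_two, ← orderOf_zC, pow_orderOf_eq_one]
  have hx2 : x * x = 1 := Subtype.ext (by
    show g * zC * g⁻¹ * (g * zC * g⁻¹) = 1
    rw [show g * zC * g⁻¹ * (g * zC * g⁻¹) = g * (zC * zC) * g⁻¹ by group, hz2, mul_one, mul_inv_cancel])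
  have hx1 : x ≠ 1 := fun e => by
    have e' : g * zC * g⁻¹ = 1 := congrArg Subtype.val e
    rw [mul_inv_eq_one, mul_eq_left] at e'
    have := orderOf_zC
    rw [e', orderOf_one] at this
    omega
  have hxz : x ≠ zQ := fun e => hne ((congrArg Subtype.val e).trans zQ_coe)
  have hv0 : crd x ≠ 0 := fun e => (crd_eq_zero hmem e).elim hx1 hxz
  have hvs : q8 (crd x) = 0 := by
    rcases (show ∀ a : ZMod 2, a = 0 ∨ a = 1 by decide) (q8 (crd x)) with h | h
    · exact h
    · exact absurd (((sq_iff hmem).2 h).symm.trans hx2) zQ_ne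
  have hw0 : (Sum.elim sVec 0 : V) ≠ 0 := fun e => sVec_spec.1 (funext fun k => congrFun e (.inl k))
  have hws : q8 (Sum.elim sVec 0) = 0 := (q8_left _).trans sVec_spec.2
  haveI := Quad.isPretransitive_spt (Q := q8) nondeg8 (by simp)
  obtain ⟨h, hh⟩ := MulAction.exists_smul_eq ↥(commutator (oGroup q8)) (Quad.spt (crd x) hv0 hvs)
    (Quad.spt (Sum.elim sVec 0) hw0 hws)
  rw [Quad.smul_spt, Quad.spt_eq_iff] at hh
  obtain ⟨c, hc⟩ := hh
  have hc1 : c = 1 := by
    rcases (show ∀ a : ZMod 2, a = 0 ∨ a = 1 by decide) c with h0 | h0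
    · exfalso
      rw [h0, zero_smul] at hc
      exact Quad.iso_ne_zero _ hv0 hc.symm
    · exact h0
  rw [hc1, one_smul] at hc
  obtain ⟨k, hk⟩ : h.1 ∈ theta.range := by rw [range_theta]; exact h.2
  have hkx := act_inj (g := k) hmem (v := Sum.elim sVec 0) (by
    rw [hk]
    first | exact hc | exact hc.symm)
  have hr : k * x * k⁻¹ ∈ cC := by
    rcases hkx with e | e <;> rw [e]
    · exact left_mem (Sum.elim_comp_inr _ _)
    · exact mul_mem zQ_cC (left_mem (Sum.elim_comp_inr _ _))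
  refine ⟨(k : Spor.Co1) * g, ⟨k * x * k⁻¹, hr⟩, mem_subgroupOf.2 (conj_mem k hmem), fun e => hx1 ?_,
    fun e => hxz ?_, ?_⟩
  · exact conj_eq_one_iff.1 (congrArg Subtype.val e)
  · have e' : k * x * k⁻¹ = zQ := congrArg Subtype.val e
    rw [mul_inv_eq_iff_eq_mul, ← zQ_comm k] at e'
    exact mul_left_cancel e'
  · show (k : Spor.Co1) * g * zC * ((k : Spor.Co1) * g)⁻¹ = (k : Spor.Co1) * (g * zC * g⁻¹) * (k : Spor.Co1)⁻¹
    group

theorem α_comm_zC : α * zC = zC * α := mem_centralizer_singleton_iff.1 gA.2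

theorem centralizer_zpowers_α : centralizer (zpowers α : Set Spor.Co1) = Mg := by
  rw [zpowers_eq_closure, centralizer_closure]

/-- The fixed part of the extraspecial subgroup. -/
noncomputable abbrev RC : Subgroup Spor.Co1 := QC ⊓ centralizer (zpowers α : Set Spor.Co1)

theorem mem_RC {r : cC} (hr : r ∈ Rc) : ((r : c1) : Spor.Co1) ∈ RC := by
  refine ⟨mem_map_of_mem c1.subtype (mem_subgroupOf.1 hr), ?_⟩
  rw [centralizer_zpowers_α]
  exact coe_mem_Mg r

theorem cent_AR {x : Spor.Co1} (hx : x ∈ centralizer ((zpowers α ⊔ RC : Subgroup Spor.Co1) : Set Spor.Co1)) :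
    ∃ k : ℕ, x = α ^ k ∨ x = zC * α ^ k := by
  have hα : x * α = α * x :=
    (mem_centralizer_iff.1 hx α (SetLike.le_def.1 le_sup_left (mem_zpowers α))).symm
  have hR : ∀ r : cC, r ∈ Rc → x * ((r : c1) : Spor.Co1) = ((r : c1) : Spor.Co1) * x := fun r hr =>
    (mem_centralizer_iff.1 hx _ (SetLike.le_def.1 le_sup_right (mem_RC hr))).symm
  have hz : x * zC = zC * x := by
    have := hR z6 z6_mem
    change x * (zQ : Spor.Co1) = (zQ : Spor.Co1) * x at this
    rwa [zQ_coe] at this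
  set g : cC := ⟨⟨x, mem_centralizer_singleton_iff.2 hz⟩, mem_centralizer_singleton_iff.2 (Subtype.ext hα)⟩
  have hc : ∀ r : cC, r ∈ Rc → g * r = r * g := fun r hr => Subtype.ext (Subtype.ext (hR r hr))
  have hpsi : psi g = 1 := by
    rw [psi_apply]
    refine Subtype.ext (LinearEquiv.ext fun v => ?_)
    show ((theta g.1).1 (Sum.elim v 0)) ∘ Sum.inl = v
    have he : g.1 * E (Sum.elim v 0) * g.1⁻¹ = E (Sum.elim v 0) := by
      rw [show g.1 * E (Sum.elim v 0) = E (Sum.elim v 0) * g.1 from congrArg Subtype.val (hc _ (E6_mem v)),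
        mul_inv_cancel_right]
    conv_lhs => rw [← crd_E (Sum.elim v (0 : I2 → ZMod 2)), theta_crd g.1 (E_mem _), he, crd_E]
    exact Sum.elim_comp_inl _ _
  obtain ⟨r, hr, k, hk⟩ := ker_psi hpsi
  have hg : ∀ s : cC, s ∈ Rc → (⟨gA, gA_cC⟩ : cC) ^ k * s = s * ⟨gA, gA_cC⟩ ^ k := fun s hs =>
    ((show Commute (⟨gA, gA_cC⟩ : cC) s from Subtype.ext (cC_comm s.2).symm).pow_left k).eq
  have hrc : ∀ s ∈ Rc, r * s = s * r := fun s hs => by
    have h1 := hc s hs
    rw [hk, mul_assoc, hg s hs, ← mul_assoc, ← mul_assoc] at h1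
    exact mul_right_cancel h1
  refine ⟨k, ?_⟩
  have hx' : x = ((r : c1) : Spor.Co1) * α ^ k := by
    have := congrArg (fun t : cC => ((t : c1) : Spor.Co1)) hk
    simpa [α] using this
  rcases central_Rc hr hrc with rfl | rfl
  · left; rw [hx']; exact one_mul _
  · right; rw [hx', show ((z6 : c1) : Spor.Co1) = zC from zQ_coe]

theorem exists_gS : ∃ g : Sec, g * zS * g⁻¹ ≠ zS ∧
    ∃ r : cC, r ∈ Rc ∧ g * zS * g⁻¹ = ((toS r : cS) : Sec) := by
  haveI := finite_c1
  haveI : Finite Spor.Co1 := Quotient.finite _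
  obtain ⟨g, r, hr, hr1, hrz, hg⟩ := exists_conj_Rc
  set A := zpowers α
  have hAz : A ≤ centralizer ({zC} : Set Spor.Co1) :=
    zpowers_le.2 (mem_centralizer_singleton_iff.2 α_comm_zC)
  have hodd : Odd (Nat.card A) := by rw [card_α]; decide
  have h32 : 32 ≤ Nat.card RC := by
    have h := Nat.card_le_card_of_injective (fun r : Rc => (⟨_, mem_RC r.2⟩ : RC)) fun a b h =>
      Subtype.ext (Subtype.ext (Subtype.ext (congrArg (fun t : RC => (t : Spor.Co1)) h)))
    rw [card_Rc] at h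
    omega
  set D := centralizer ((A ⊔ RC : Subgroup Spor.Co1) : Set Spor.Co1) with hD
  have hαz : Commute α zC := α_comm_zC
  have h4 : ¬ 4 ∣ Nat.card D := by
    intro h
    have hαD : α ∈ D := by
      refine (centralizer_le (Set.Subset.rfl)) (mem_centralizer_iff.2 fun y hy => ?_)
      refine ((mem_centralizer_singleton_iff (g := α)).1 ?_)
      exact (sup_le (zpowers_le.2 (mem_centralizer_singleton_iff.2 rfl))
        (inf_le_right.trans centralizer_zpowers_α.le) : A ⊔ RC ≤ centralizer ({α} : Set Spor.Co1)) hy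
    have h3 : 3 ∣ Nat.card D := orderOf_α ▸ D.orderOf_dvd_natCard hαD
    have h12 : 12 ∣ Nat.card D := Nat.Coprime.mul_dvd_of_dvd_of_dvd (by norm_num : Nat.Coprime 4 3) h h3
    have h6 : Nat.card D ≤ 6 := by
      let f : Fin 3 × Bool → Spor.Co1 := fun p => cond p.2 zC 1 * α ^ (p.1 : ℕ)
      have hsub : (D : Set Spor.Co1) ⊆ Set.range f := by
        intro x hx
        obtain ⟨k, hk⟩ := cent_AR hx
        have hk3 : α ^ k = α ^ (k % 3) := by rw [← orderOf_α, pow_mod_orderOf]
        rw [hk3] at hk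
        rcases hk with e | e
        · exact ⟨(⟨k % 3, Nat.mod_lt _ (by norm_num)⟩, false), by simp [f, e]⟩
        · exact ⟨(⟨k % 3, Nat.mod_lt _ (by norm_num)⟩, true), by simp [f, e]⟩
      refine le_trans (Nat.card_mono (Set.finite_range f) hsub) ?_
      refine le_trans (Nat.card_le_card_of_surjective (Set.rangeFactorization f)
        Set.rangeFactorization_surjective) ?_
      simp
    have hpos : 0 < Nat.card D := Nat.card_pos
    have := Nat.le_of_dvd hpos h12
    omega
  have hO : (Cfsg.oddCore D).map D.subtype ≤ A := by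
    rintro _ ⟨x, hx, rfl⟩
    obtain ⟨k, hk | hk⟩ := cent_AR x.2
    · show (x : Spor.Co1) ∈ A
      rw [hk]
      exact pow_mem (mem_zpowers α) k
    · exfalso
      have hco : (orderOf x).Coprime 2 := Nat.Coprime.coprime_dvd_left (orderOf_dvd_natCard _ hx)
        (Solvable.coprime_card_pPrimeCore (p := 2) (G := D))
      rw [← orderOf_coe] at hco
      have h3 : (x : Spor.Co1) ^ 3 = zC := by
        have hk' : (x : Spor.Co1) = zC * α ^ k := hk
        have ha3 : α ^ 3 = 1 := orderOf_α ▸ pow_orderOf_eq_one α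
        rw [hk', (hαz.symm.pow_right k).mul_pow, ← pow_mul, mul_comm k 3, pow_mul, ha3, one_pow,
          mul_one, pow_succ, show zC ^ 2 = 1 from orderOf_zC ▸ pow_orderOf_eq_one zC, one_mul]
      have h2 : (2 : ℕ) ∣ orderOf (x : Spor.Co1) := by
        rw [← orderOf_zC, ← h3]
        exact orderOf_pow_dvd 3
      exact absurd (Nat.dvd_gcd h2 dvd_rfl) (by rw [hco]; norm_num)
  have hgR : g * zC * g⁻¹ ∈ RC := hg ▸ mem_RC hr
  have hgz : g * zC * g⁻¹ ≠ zC := fun e => hrz (Subtype.ext (Subtype.ext (by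
    show ((r : c1) : Spor.Co1) = (zQ : Spor.Co1)
    rw [zQ_coe, ← hg, e])))
  have hM : Mg = centralizer (A : Set Spor.Co1) ⊔ A := by
    rw [centralizer_zpowers_α, left_eq_sup]
    exact zpowers_le.2 (mem_centralizer_singleton_iff.2 rfl)
  haveI : (A.subgroupOf Mg).Normal := inferInstanceAs Ng.Normal
  obtain ⟨-, -, y, hy, hyc⟩ := SectionLarge.odd_main pre_QC extraspecial_QC hAz hodd rfl h32 hO h4
    hgR hgz Mg hM
  have hyM : y ∈ Mg := by
    rw [← centralizer_zpowers_α]
    exact (sup_le inf_le_right inf_le_right : RC ⊔ (QC.map (MulAut.conj g).toMonoidHom ⊓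
      centralizer (A : Set Spor.Co1)) ≤ centralizer (A : Set Spor.Co1)) hy
  have key : QuotientGroup.mk' Ng ⟨y, hyM⟩⁻¹ * zS * (QuotientGroup.mk' Ng ⟨y, hyM⟩⁻¹)⁻¹ =
      ((toS r : cS) : Sec) := by
    show QuotientGroup.mk' Ng ⟨y, hyM⟩⁻¹ * QuotientGroup.mk' Ng (incl z6) * _ = QuotientGroup.mk' Ng (incl r)
    rw [← map_inv, ← map_mul, ← map_mul]
    congr 1
    refine Subtype.ext ?_
    show y⁻¹ * (zQ : Spor.Co1) * y⁻¹⁻¹ = ((r : c1) : Spor.Co1)
    rw [zQ_coe, ← hg]
    conv_lhs => rw [← hyc]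
    group
  refine ⟨_, fun e => hrz ?_, r, hr, key⟩
  rw [key] at e
  have e' : toS r = toS z6 := Subtype.ext e
  have := toS_inj (mul_mem hr (inv_mem z6_mem)) (by rw [map_mul, map_inv, e', mul_inv_cancel])
  exact mul_inv_eq_one.1 this

theorem zS_eq : ((toS z6 : cS) : Sec) = zS := rfl

theorem crd6_conj (g : cC) {s : cC} (hs : s ∈ Rc) : crd6 (g * s * g⁻¹) = (psi g).1 (crd6 s) := by
  rw [psi_apply, restrictHom_apply]
  show crd (g.1 * s.1 * g.1⁻¹) ∘ Sum.inl = ((theta g.1).1 (Sum.elim (crd6 s) 0)) ∘ Sum.inl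
  rw [← crd_of_crd6 hs, theta_crd g.1 (show (s : c1) ∈ qC from mem_subgroupOf.1 hs)]

/-- The kernel in the section. -/
noncomputable abbrev QS : Subgroup Sec := qS.map cS.subtype

theorem finite_Sec : Finite Sec := by
  haveI : Finite Spor.Co1 := Quotient.finite _
  exact Quotient.finite _

theorem extraspecial_QS : Cfsg.IsExtraspecial 2 QS := by
  haveI := finite_Sec
  exact LargeExtra.isExtraspecial_equiv (qS.equivMapOfInjective _ cS.subtype_injective) extraspecial_qS

theorem card_QS : Nat.card QS = 128 := by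
  rw [card_map_of_injective cS.subtype_injective, card_qS]

theorem pre_QS : LargeExtra.Pre QS zS := by
  haveI := finite_Sec
  exact LargeExtra.pre_of_fstar orderOf_zS (by rw [fstar]) extraspecial_QS

theorem qS_le_of {N : Subgroup cS} [N.Normal] (hz : toS z6 ∈ N) {r : cC} (hr : r ∈ Rc)
    (hrN : toS r ∈ N) (hr1 : r ≠ 1) (hrz : r ≠ z6) (hr2 : r * r = 1) : qS ≤ N := by
  have hiff : ∀ {s t : cC}, s ∈ Rc → t ∈ Rc → crd6 s = crd6 t → toS s ∈ N → toS t ∈ N := by
    intro s t hs ht he hsN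
    have h0 : crd6 (t * s⁻¹) = 0 := by
      rw [crd6_mul ht (inv_mem hs)]
      funext k
      have : crd6 s⁻¹ = crd6 s := by
        simp only [crd6, InvMemClass.coe_inv, crd_inv (show (s : c1) ∈ qC from mem_subgroupOf.1 hs)]
      rw [this, he]
      exact CharTwo.add_self_eq_zero _
    rcases eq_of_crd6 (mul_mem ht (inv_mem hs)) h0 with e | e
    · rw [mul_inv_eq_one.1 e]; exact hsN
    · rw [mul_inv_eq_iff_eq_mul.1 e, map_mul]; exact mul_mem hz hsN
  have hinv : ∀ s : cC, s ∈ Rc → crd6 s⁻¹ = crd6 s := fun s hs => by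
    simp only [crd6, InvMemClass.coe_inv, crd_inv (show (s : c1) ∈ qC from mem_subgroupOf.1 hs)]
  let W : AddSubgroup (I6 → ZMod 2) :=
    { carrier := {x | ∃ s, s ∈ Rc ∧ toS s ∈ N ∧ crd6 s = x}
      add_mem' := by
        rintro _ _ ⟨s, hs, hsN, rfl⟩ ⟨t, ht, htN, rfl⟩
        exact ⟨s * t, mul_mem hs ht, by rw [map_mul]; exact mul_mem hsN htN, crd6_mul hs ht⟩
      zero_mem' := ⟨1, one_mem _, by rw [map_one]; exact one_mem _, by
        show crd (1 : c1) ∘ Sum.inl = 0
        rw [crd_one]; rfl⟩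
      neg_mem' := by
        rintro _ ⟨s, hs, hsN, rfl⟩
        refine ⟨s, hs, hsN, funext fun k => (CharTwo.neg_eq _).symm⟩ }
  have hW : ∀ h ∈ commutator (oGroup q6), ∀ x ∈ W, h.1 x ∈ W := by
    rintro h hh _ ⟨s, hs, hsN, rfl⟩
    obtain ⟨g, rfl⟩ : h ∈ psi.range := psi_range ▸ hh
    refine ⟨g * s * g⁻¹, mem_subgroupOf.2 (conj_mem g.1 (mem_subgroupOf.1 hs)), ?_, crd6_conj g hs⟩
    rw [map_mul, map_mul, map_inv]
    exact (inferInstance : N.Normal).conj_mem _ hsN _
  have hv0 : crd6 r ≠ 0 := fun e => (eq_of_crd6 hr e).elim hr1 hrz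
  have hvs : q6 (crd6 r) = 0 := by
    rw [← q8_left, ← crd_of_crd6 hr]
    rcases (show ∀ a : ZMod 2, a = 0 ∨ a = 1 by decide) (q8 (crd r.1)) with h | h
    · exact h
    · exact absurd (((sq_iff (show (r : c1) ∈ qC from mem_subgroupOf.1 hr)).2 h).symm.trans
        (congrArg Subtype.val hr2)) zQ_ne
  intro x hx
  rw [qS_eq] at hx
  obtain ⟨s, hs, rfl⟩ := hx
  obtain ⟨t, ht, htN, he⟩ := eq_univ_of_invariant hW ⟨r, hr, hrN, rfl⟩ hv0 hvs (crd6 s)
  exact hiff ht hs he htN

theorem cS_le_normal (N : Subgroup Sec) [N.Normal] (hz : zS ∈ N) :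
    centralizer ({zS} : Set Sec) ≤ N := by
  haveI := finite_Sec
  haveI := finite_cS
  obtain ⟨g, hgne, r, hr, hg⟩ := exists_gS
  have hrN : ((toS r : cS) : Sec) ∈ N := hg ▸ (inferInstance : N.Normal).conj_mem _ hz g
  haveI : (N.subgroupOf cS).Normal := inferInstance
  have hr1 : r ≠ 1 := by
    rintro rfl
    rw [map_one, OneMemClass.coe_one, conj_eq_one_iff] at hg
    exact pre_QS.gen.ne_one hg
  have hrz : r ≠ z6 := by
    rintro rfl
    exact hgne (hg.trans zS_eq)
  have hr2 : r * r = 1 := by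
    refine toS_inj (mul_mem hr hr) (Subtype.ext ?_)
    rw [map_mul, Subgroup.coe_mul, ← hg, SectionLarge.sq_conj pre_QS]
    rfl
  have hqN : qS ≤ N.subgroupOf cS := qS_le_of (N := N.subgroupOf cS) hz hr hrN hr1 hrz hr2
  have hQN : QS ≤ N := by
    rintro _ ⟨q, hq, rfl⟩
    exact hqN hq
  -- an element of the conjugate kernel outside the kernel
  set b := g * zS * g⁻¹
  set Qg := QS.map (MulAut.conj g).toMonoidHom
  have hgen := (LargeExtra.pre_conj pre_QS g).gen
  have hbQ : b ∈ QS := hg ▸ ⟨toS r, (qS_eq ▸ mem_map_of_mem toS hr : toS r ∈ qS), rfl⟩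
  have hzg : zS ∈ Qg := pre_QS.center_mem_conj hbQ
  have hQgN : Qg ≤ N := by
    rintro _ ⟨q, hq, rfl⟩
    exact (inferInstance : N.Normal).conj_mem _ (hQN hq) g
  set K := Qg ⊓ centralizer ({zS} : Set Sec) with hKdef
  have hK64 : 64 ≤ Nat.card K := by
    have hQg : Nat.card Qg = 128 := by
      rw [card_map_of_injective (MulEquiv.injective _), card_QS]
    have hmove : ∀ x ∈ Qg, x ∉ K → x * zS * x⁻¹ = b * zS := fun x hx hxK => by
      rcases Extra2.conj_eq hgen hx hzg with e | e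
      · exact absurd ⟨hx, mem_centralizer_singleton_iff.2 (mul_inv_eq_iff_eq_mul.1 e)⟩ hxK
      · exact e
    have h2 : ∀ x ∈ Qg, ∀ y ∈ Qg, x ∉ K → y ∉ K → x * y ∈ K := fun x hx y hy hxK hyK => by
      refine ⟨mul_mem hx hy, mem_centralizer_singleton_iff.2 (mul_inv_eq_iff_eq_mul.1 ?_)⟩
      rw [show x * y * zS * (x * y)⁻¹ = x * (y * zS * y⁻¹) * x⁻¹ by group, hmove y hy hyK,
        show x * (b * zS) * x⁻¹ = x * b * x⁻¹ * (x * zS * x⁻¹) by group, hmove x hx hxK,
        show x * b * x⁻¹ = b from mul_inv_eq_iff_eq_mul.2 (hgen.comm_z x hx), ← mul_assoc,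
        hgen.sq, one_mul]
    have hle : K ≤ Qg := inf_le_left
    by_cases hall : Qg ≤ K
    · rw [le_antisymm hle hall, hQg]; norm_num
    obtain ⟨a, ha, haK⟩ := SetLike.not_le_iff_exists.1 hall
    have hidx : (K.subgroupOf Qg).index = 2 := by
      refine index_eq_two_iff.2 ⟨⟨a, ha⟩, fun y => ?_⟩
      simp only [mem_subgroupOf, Subgroup.coe_mul]
      by_cases hy : (y : Sec) ∈ K
      · exact Or.inr ⟨hy, fun h => haK (by simpa using mul_mem (inv_mem hy) h)⟩
      · exact Or.inl ⟨h2 _ y.2 a ha hy haK, hy⟩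
    have h := (K.subgroupOf Qg).card_mul_index
    rw [hidx, hQg, Nat.card_congr (subgroupOfEquivOfLe hle).toEquiv] at h
    omega
  have hout : ¬ K ≤ QS := by
    intro hKQ
    have hab : ∀ x ∈ K, ∀ y ∈ K, y * x = x * y := fun x hx y hy => by
      rcases pre_QS.gen.comm y (hKQ hy) x (hKQ hx) with e | e
      · exact mul_inv_eq_iff_eq_mul.1 (mul_inv_eq_one.1 e)
      · rcases hgen.comm y hy.1 x hx.1 with f | f
        · exact mul_inv_eq_iff_eq_mul.1 (mul_inv_eq_one.1 f)
        · exact absurd (f.symm.trans e) hgne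
    have hzK : zS ∈ K := ⟨hzg, mem_centralizer_singleton_iff.2 rfl⟩
    have hc := Extra2.card_mul_card_centralizer pre_QS.gen hzK hKQ
    have hle : K ≤ QS ⊓ centralizer (K : Set Sec) := le_inf hKQ fun x hx =>
      mem_centralizer_iff.2 fun y hy => hab x hx y hy
    have h1 := card_le_of_le hle
    rw [card_QS] at hc
    nlinarith
  obtain ⟨x, hx, hxQ⟩ := SetLike.not_le_iff_exists.1 hout
  haveI := simple6
  haveI : IsSimpleGroup (cS ⧸ qS) := quotS.isSimpleGroup
  rcases ((inferInstance : (N.subgroupOf cS).Normal).map (QuotientGroup.mk' qS)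
    (QuotientGroup.mk'_surjective qS)).eq_bot_or_eq_top with h | h
  · exfalso
    rw [Subgroup.map_eq_bot_iff, QuotientGroup.ker_mk'] at h
    exact hxQ ⟨⟨x, hx.2⟩, h (hQgN hx.1), rfl⟩
  · intro c hc
    have hcm : QuotientGroup.mk' qS ⟨c, hc⟩ ∈ (N.subgroupOf cS).map (QuotientGroup.mk' qS) := h ▸ mem_top _
    obtain ⟨n, hn, e⟩ := mem_map.1 hcm
    rw [QuotientGroup.mk'_apply, QuotientGroup.mk'_apply, QuotientGroup.eq] at e
    have := mul_mem hn (hqN e)
    rwa [mul_inv_cancel_left] at this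

theorem simple_Sec : IsSimpleGroup Sec := by
  haveI := finite_Sec
  obtain ⟨g, hgne, r, hr, hg⟩ := exists_gS
  refine LargeExtra.simple_of pre_QS (LargeExtra.large_of_conj pre_QS extraspecial_QS (g := g) ?_ hgne)
    fun N hN hz => cS_le_normal N hz
  exact hg ▸ ⟨toS r, (qS_eq ▸ mem_map_of_mem toS hr : toS r ∈ qS), rfl⟩

theorem not_comm_Sec : ¬ IsMulCommutative Sec := fun h => by
  obtain ⟨g, hgne, -⟩ := exists_gS
  exact hgne (by rw [h.is_comm.comm g zS, mul_inv_cancel_right])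

/-! ### Lifting to the automorphism group of the lattice -/

theorem exists_a0 : ∃ a : Co0, orderOf a = 3 ∧ mk1 a = α := by
  obtain ⟨u, hu⟩ := QuotientGroup.mk'_surjective (Subgroup.center Co0) α
  have hu' : mk1 u = α := hu
  haveI : Fact (Nat.Prime 3) := ⟨Nat.prime_three⟩
  have ha3 : α ^ 3 = 1 := orderOf_α ▸ pow_orderOf_eq_one α
  have hn2 : Leech.negAut ^ 4 = 1 := by
    have h : Leech.negAut * Leech.negAut = 1 := by
      rw [← Leech.signAut_one, Leech.signAut_mul, add_self_code, Leech.signAut_zero]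
    rw [show (4 : ℕ) = 2 + 2 from rfl, pow_add, pow_two, h, one_mul]
  have hα4 : mk1 (u ^ 4) = α := by
    rw [map_pow, hu', show (4 : ℕ) = 3 + 1 from rfl, pow_add, ha3, one_mul, pow_one]
  refine ⟨u ^ 4, orderOf_eq_prime ?_ fun e => ?_, hα4⟩
  · rw [← pow_mul, show 4 * 3 = 3 * 4 from rfl, pow_mul]
    rcases mk1_eq_one.1 (by rw [map_pow, hu', ha3] : mk1 (u ^ 3) = 1) with e | e <;> rw [e]
    · exact one_pow 4
    · exact hn2
  · rw [e, map_one] at hα4
    exact gA_ne (Subtype.ext hα4.symm)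

theorem lift_section : ∃ A : Subgroup Co0, Nat.card A = 3 ∧
    ∃ (hn : ((A ⊔ center Co0).subgroupOf (centralizer (A : Set Co0))).Normal),
      Nonempty (Sec ≃* (centralizer (A : Set Co0)) ⧸ (A ⊔ center Co0).subgroupOf (centralizer (A : Set Co0))) := by
  obtain ⟨a, ha, hα⟩ := exists_a0
  set A := zpowers a
  have hC : centralizer (A : Set Co0) = centralizer ({a} : Set Co0) := by
    show centralizer (zpowers a : Set Co0) = _
    rw [zpowers_eq_closure, centralizer_closure]
  have hmem : ∀ u : centralizer (A : Set Co0), mk1 (u : Co0) ∈ Mg := fun u => by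
    rw [mem_centralizer_singleton_iff, ← hα, ← map_mul, ← map_mul,
      mem_centralizer_singleton_iff.1 (hC.le u.2)]
  let φ : centralizer (A : Set Co0) →* Sec :=
    (QuotientGroup.mk' Ng).comp ((mk1.comp (centralizer (A : Set Co0)).subtype).codRestrict Mg hmem)
  have hsur : Function.Surjective φ := by
    intro y
    obtain ⟨⟨m, hm⟩, rfl⟩ := QuotientGroup.mk'_surjective Ng y
    obtain ⟨u, hu⟩ := QuotientGroup.mk'_surjective (Subgroup.center Co0) m
    have hu' : mk1 u = m := hu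
    have h1 : mk1 (u * a * u⁻¹ * a⁻¹) = 1 := by
      rw [map_mul, map_mul, map_mul, map_inv, map_inv, hu', hα, mem_centralizer_singleton_iff.1 hm,
        mul_inv_cancel_right, mul_inv_cancel]
    have huC : u ∈ centralizer (A : Set Co0) := by
      rw [hC, mem_centralizer_singleton_iff]
      rcases mk1_eq_one.1 h1 with e | e
      · exact mul_inv_eq_iff_eq_mul.1 (mul_inv_eq_one.1 e)
      · exfalso
        have ha3 : a ^ 3 = 1 := ha ▸ pow_orderOf_eq_one a
        have e' : u * a * u⁻¹ = Leech.negAut * a := mul_inv_eq_iff_eq_mul.1 e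
        have h3 : (u * a * u⁻¹) ^ 3 = 1 := by rw [conj_pow, ha3, mul_one, mul_inv_cancel]
        rw [e', (show Commute Leech.negAut a from
          (mem_center_iff.1 Leech.negAut_central a).symm).mul_pow, ha3, mul_one] at h3
        have h2 : Leech.negAut * Leech.negAut = 1 := by
          rw [← Leech.signAut_one, Leech.signAut_mul, add_self_code, Leech.signAut_zero]
        rw [pow_succ, pow_two, h2, one_mul] at h3
        exact negAut_not_qp (h3 ▸ one_mem qp)
    refine ⟨⟨u, huC⟩, ?_⟩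
    show QuotientGroup.mk' Ng _ = _
    exact congrArg (QuotientGroup.mk' Ng) (Subtype.ext hu')
  have hker : (A ⊔ center Co0).subgroupOf (centralizer (A : Set Co0)) = φ.ker := by
    ext u
    rw [mem_subgroupOf, MonoidHom.mem_ker]
    show (u : Co0) ∈ A ⊔ center Co0 ↔ QuotientGroup.mk' Ng ⟨mk1 (u : Co0), hmem u⟩ = 1
    rw [QuotientGroup.mk'_apply, QuotientGroup.eq_one_iff, mem_subgroupOf]
    show _ ↔ mk1 (u : Co0) ∈ zpowers α
    rw [← hα, ← MonoidHom.map_zpowers, ← mem_comap, comap_map_eq]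
    rw [show mk1.ker = center Co0 from QuotientGroup.ker_mk' _]
  haveI hn : ((A ⊔ center Co0).subgroupOf (centralizer (A : Set Co0))).Normal := by
    rw [hker]; infer_instance
  refine ⟨A, by rw [Nat.card_zpowers, ha], hn, ⟨?_⟩⟩
  exact (QuotientGroup.quotientKerEquivOfSurjective φ hsur).symm.trans
    (QuotientGroup.quotientMulEquivOfEq hker.symm)

end CfsgLib.SuzSection
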