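import Cfsg.Agent.SuzSection.Form

/-! The centraliser of the element of order three in the orthogonal group. -/

set_option autoImplicit false
set_option maxRecDepth 100000

namespace CfsgLib.SuzSection

open CfsgLib.Quad QuadraticMap

theorem q8_left (x : I6 → ZMod 2) : q8 (Sum.elim x 0) = q6 x := by simp [sumQ_coe]

theorem elim_add (x x' : I6 → ZMod 2) (y y' : I2 → ZMod 2) :
    Sum.elim (x + x') (y + y') = Sum.elim x y + Sum.elim x' y' := by
  funext k; rcases k with k | k <;> simp

variable {g : oGroup q8}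

theorem comm_apply (hg : g * a3 = a3 * g) (v : V) : g.1 (a3.1 v) = a3.1 (g.1 v) := by
  show (g * a3).1 v = (a3 * g).1 v
  rw [hg]

theorem map_left (hg : g * a3 = a3 * g) {v : V} (hv : v ∘ Sum.inr = 0) :
    (g.1 v) ∘ Sum.inr = 0 :=
  (fix_iff _).1 (by rw [← comm_apply hg, (fix_iff v).2 hv])

theorem rot_rot_add : ∀ d, rot (rot d) + rot d = d := by decide +kernel

theorem map_right (hg : g * a3 = a3 * g) (d : I2 → ZMod 2) :
    (g.1 (Sum.elim (0 : I6 → ZMod 2) d)) ∘ Sum.inl = 0 := by
  have e : (Sum.elim (0 : I6 → ZMod 2) d : V) = a3.1 (Sum.elim (0 : I6 → ZMod 2) (rot d)) + Sum.elim (0 : I6 → ZMod 2) (rot d) := by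
    rw [a3_apply, Sum.elim_comp_inl, Sum.elim_comp_inr, ← elim_add, add_zero, rot_rot_add]
  rw [e, map_add, comm_apply hg, a3_apply]
  funext k
  simp only [Function.comp_apply, Pi.add_apply, Sum.elim_inl, Pi.zero_apply]
  exact CharTwo.add_self_eq_zero _

theorem apply_split (hg : g * a3 = a3 * g) (v : V) :
    g.1 v = Sum.elim ((g.1 (Sum.elim (v ∘ Sum.inl) 0)) ∘ Sum.inl)
      ((g.1 (Sum.elim (0 : I6 → ZMod 2) (v ∘ Sum.inr))) ∘ Sum.inr) := by
  conv_lhs => rw [← Sum.elim_comp_inl_inr v,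
    show Sum.elim (v ∘ Sum.inl) (v ∘ Sum.inr) =
      Sum.elim (v ∘ Sum.inl) 0 + Sum.elim (0 : I6 → ZMod 2) (v ∘ Sum.inr) by rw [← elim_add, add_zero, zero_add],
    map_add]
  funext k
  rcases k with k | k
  · have := congrFun (map_right hg (v ∘ Sum.inr)) k
    simp only [Function.comp_apply, Pi.zero_apply] at this
    simp [this]
  · have := congrFun (map_left hg (v := Sum.elim (v ∘ Sum.inl) 0) (Sum.elim_comp_inr _ _)) k
    simp only [Function.comp_apply, Pi.zero_apply] at this
    simp [this]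

/-- The centraliser of the element of order three. -/
abbrev cent : Subgroup (oGroup q8) := Subgroup.centralizer ({a3} : Set (oGroup q8))

theorem cent_comm (g : cent) : g.1 * a3 = a3 * g.1 := Subgroup.mem_centralizer_singleton_iff.1 g.2

/-- The map on the six-dimensional summand. -/
noncomputable def restrictFun (g : cent) : (I6 → ZMod 2) →ₗ[ZMod 2] (I6 → ZMod 2) :=
  (AddMonoidHom.mk' (fun x => (g.1.1 (Sum.elim x 0)) ∘ Sum.inl) fun x y => by
    rw [show Sum.elim (x + y) (0 : I2 → ZMod 2) = Sum.elim x 0 + Sum.elim y 0 from elim_add_zero x y,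
      map_add]
    rfl).toZModLinearMap 2

theorem restrictFun_apply (g : cent) (x : I6 → ZMod 2) :
    restrictFun g x = (g.1.1 (Sum.elim x 0)) ∘ Sum.inl := rfl

theorem left_apply (g : cent) (x : I6 → ZMod 2) :
    g.1.1 (Sum.elim x 0) = Sum.elim (restrictFun g x) 0 := by
  conv_lhs => rw [← Sum.elim_comp_inl_inr (g.1.1 (Sum.elim x 0)),
    map_left (cent_comm g) (Sum.elim_comp_inr _ _)]
  rfl

theorem restrictFun_mul (g h : cent) (x : I6 → ZMod 2) :
    restrictFun (g * h) x = restrictFun g (restrictFun h x) := by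
  show (g.1.1 (h.1.1 (Sum.elim x 0))) ∘ Sum.inl = _
  rw [left_apply h, left_apply g, Sum.elim_comp_inl]

theorem restrictFun_one (x : I6 → ZMod 2) : restrictFun 1 x = x := by funext k; rfl

/-- The restriction to the six-dimensional summand. -/
noncomputable def restrictHom : cent →* oGroup q6 where
  toFun g := ⟨LinearEquiv.ofBijective (restrictFun g) ⟨fun x y h => by
      have := congrArg (restrictFun g⁻¹) h
      rwa [← restrictFun_mul, ← restrictFun_mul, inv_mul_cancel, restrictFun_one, restrictFun_one] at this,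
    fun y => ⟨restrictFun g⁻¹ y, by rw [← restrictFun_mul, mul_inv_cancel, restrictFun_one]⟩⟩,
    fun x => by
      show q6 (restrictFun g x) = q6 x
      rw [← q8_left, ← left_apply, g.1.2, q8_left]⟩
  map_one' := Subtype.ext (LinearEquiv.ext restrictFun_one)
  map_mul' g h := Subtype.ext (LinearEquiv.ext (restrictFun_mul g h))

theorem restrictHom_apply (g : cent) (x : I6 → ZMod 2) :
    (restrictHom g).1 x = (g.1.1 (Sum.elim x 0)) ∘ Sum.inl := rfl

theorem a3_cent : a3 ∈ cent := Subgroup.mem_centralizer_singleton_iff.2 rfl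

theorem restrict_a3 : restrictHom ⟨a3, a3_cent⟩ = 1 := by
  refine Subtype.ext (LinearEquiv.ext fun x => ?_)
  show (a3.1 (Sum.elim x 0)) ∘ Sum.inl = x
  rw [a3_apply, Sum.elim_comp_inl, Sum.elim_comp_inl]

theorem extend_cent (h : oGroup q6) : extendLeft q6 q2 h ∈ cent := by
  refine Subgroup.mem_centralizer_singleton_iff.2 (Subtype.ext (LinearEquiv.ext fun v => ?_))
  show (extendLeft q6 q2 h).1 (a3.1 v) = a3.1 ((extendLeft q6 q2 h).1 v)
  simp only [extendLeft_apply, a3_apply, Sum.elim_comp_inl, Sum.elim_comp_inr]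

theorem restrict_extend (h : oGroup q6) : restrictHom ⟨_, extend_cent h⟩ = h := by
  refine Subtype.ext (LinearEquiv.ext fun x => ?_)
  show ((extendLeft q6 q2 h).1 (Sum.elim x 0)) ∘ Sum.inl = h.1 x
  rw [extendLeft_apply, Sum.elim_comp_inl, Sum.elim_comp_inl]

theorem exists_power (g : cent) : ∃ k, g.1 = extendLeft q6 q2 (restrictHom g) * a3 ^ k := by
  have hg := cent_comm g
  set f : (I2 → ZMod 2) → (I2 → ZMod 2) := fun d => (g.1.1 (Sum.elim (0 : I6 → ZMod 2) d)) ∘ Sum.inr with hf
  have hq : q2 (f e1) = 1 := by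
    have h1 := g.1.2 (Sum.elim (0 : I6 → ZMod 2) e1)
    rw [q8_right, q2_e.1, ← Sum.elim_comp_inl_inr (g.1.1 (Sum.elim (0 : I6 → ZMod 2) e1)), map_right hg,
      q8_right] at h1
    exact h1
  have hrot : ∀ d, f (rot d) = rot (f d) := fun d => by
    have h1 := congrArg (fun v : V => v ∘ Sum.inr) (comm_apply hg (Sum.elim (0 : I6 → ZMod 2) d))
    simp only [a3_apply, Sum.elim_comp_inl, Sum.elim_comp_inr] at h1
    exact h1
  have hlin : ∀ d, f d = d (.inr 0) • f e1 + d (.inr 1) • f (rot e1) := fun d => by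
    conv_lhs => rw [decomp d]
    simp only [hf]
    rw [show (Sum.elim (0 : I6 → ZMod 2) (d (.inr 0) • e1 + d (.inr 1) • rot e1) : V) =
      d (.inr 0) • Sum.elim (0 : I6 → ZMod 2) e1 + d (.inr 1) • Sum.elim (0 : I6 → ZMod 2) (rot e1) by
        funext k; rcases k with k | k <;> simp, map_add, map_smul, map_smul]
    rfl
  have key : ∀ k, f e1 = rot^[k] e1 → f = rot^[k] := fun k hk => by
    have hcomm : ∀ d, rot (rot^[k] d) = rot^[k] (rot d) := fun d => by
      rw [← Function.iterate_succ_apply' rot, Function.iterate_succ_apply]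
    funext d
    rw [hlin, hrot, hk, hcomm]
    conv_rhs => rw [decomp d]
    clear hcomm hk
    induction k with
    | zero => rfl
    | succ k ih =>
      simp only [Function.iterate_succ_apply']
      rw [← ih, rot_add, rot_smul, rot_smul]
  have hpow : ∀ (k : ℕ) (v : V), (a3 ^ k).1 v = Sum.elim (v ∘ Sum.inl) (rot^[k] (v ∘ Sum.inr)) := by
    intro k
    induction k with
    | zero => intro v; exact (Sum.elim_comp_inl_inr v).symm
    | succ k ih =>
      intro v
      rw [pow_succ']
      show a3.1 ((a3 ^ k).1 v) = _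
      rw [ih, a3_apply, Sum.elim_comp_inl, Sum.elim_comp_inr, Function.iterate_succ_apply']
  obtain ⟨k, hk⟩ : ∃ k, f e1 = rot^[k] e1 := by
    rcases norm_one _ hq with h | h | h
    exacts [⟨0, h⟩, ⟨1, h⟩, ⟨2, h⟩]
  refine ⟨k, Subtype.ext (LinearEquiv.ext fun v => ?_)⟩
  show g.1.1 v = (extendLeft q6 q2 (restrictHom g)).1 ((a3 ^ k).1 v)
  rw [hpow, extendLeft_apply, Sum.elim_comp_inl, Sum.elim_comp_inr, apply_split hg, ← key k hk]
  rfl

theorem restrict_mem (g : cent) (hg : g.1 ∈ commutator (oGroup q8)) :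
    restrictHom g ∈ commutator (oGroup q6) := by
  obtain ⟨k, hk⟩ := exists_power g
  refine (extendLeft_mem_iff q6 q2 nondeg6 nondeg2 hgen6 hgen8 _).1 ?_
  rw [eq_mul_inv_of_mul_eq hk.symm]
  exact mul_mem hg (inv_mem (pow_mem a3_mem k))

theorem extend_mem {h : oGroup q6} (hh : h ∈ commutator (oGroup q6)) :
    extendLeft q6 q2 h ∈ commutator (oGroup q8) :=
  (extendLeft_mem_iff q6 q2 nondeg6 nondeg2 hgen6 hgen8 _).2 hh

/-- A nonzero singular vector lies in no proper invariant subgroup of the six-dimensional space. -/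
theorem eq_univ_of_invariant {W : AddSubgroup (I6 → ZMod 2)}
    (hW : ∀ h ∈ commutator (oGroup q6), ∀ x ∈ W, h.1 x ∈ W) {v : I6 → ZMod 2} (hv : v ∈ W)
    (hv0 : v ≠ 0) (hvs : q6 v = 0) : ∀ x, x ∈ W := by
  haveI := isPretransitive_spt (Q := q6) nondeg6 (by simp)
  let W' : Submodule (ZMod 2) (I6 → ZMod 2) := AddSubgroup.toZModSubmodule 2 W
  have hle : Submodule.span (ZMod 2) {x : I6 → ZMod 2 | q6 x = 0} ≤ W' := by
    refine Submodule.span_le.2 fun u hu => ?_
    by_cases hu0 : u = 0
    · rw [hu0]; exact zero_mem W'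
    obtain ⟨h, hh⟩ := MulAction.exists_smul_eq ↥(commutator (oGroup q6)) (spt v hv0 hvs) (spt u hu0 hu)
    rw [smul_spt, spt_eq_iff] at hh
    obtain ⟨c, hc⟩ := hh
    have hmem : h.1.1 v ∈ W' := hW _ h.2 v hv
    first
      | exact hc ▸ W'.smul_mem c hmem
      | (have : c = 1 := by
          rcases (show ∀ x : ZMod 2, x = 0 ∨ x = 1 by decide) c with h0 | h0
          · exact absurd hc (by rw [h0, zero_smul]; exact (iso_ne_zero _ hv0).symm)
          · exact h0
         simp only [this, one_smul] at hc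
         exact hc ▸ hmem)
  intro x
  have : x ∈ W' := hle ((span_singular_top (Q := q6) nondeg6 (by simp)).symm ▸ Submodule.mem_top)
  exact this

end CfsgLib.SuzSection
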