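import Cfsg.Agent.Quad.OmegaSum
import Cfsg.Agent.Quad.SimpleOmega
import Cfsg.Agent.Quad.POmega
import Cfsg.Agent.Quad.Orders

/-!
The eight-dimensional quadratic space of plus type over two elements as the sum of a six-dimensional
and a two-dimensional space of minus type, and an element of order three of its commutator group.
-/

set_option autoImplicit false
set_option maxRecDepth 100000

namespace CfsgLib.SuzSection

open CfsgLib.Quad QuadraticMap

/-- Coordinates of the six-dimensional summand. -/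
abbrev I6 : Type := (Fin 2 ⊕ Fin 2) ⊕ Fin 2

/-- Coordinates of the two-dimensional summand. -/
abbrev I2 : Type := (Fin 0 ⊕ Fin 0) ⊕ Fin 2

/-- Coordinates of the hyperbolic space. -/
abbrev P8 : Type := Fin 4 ⊕ Fin 4

/-- The six-dimensional form. -/
abbrev q6 : QuadraticForm (ZMod 2) (I6 → ZMod 2) := minusQ 2 1 1

/-- The two-dimensional form. -/
abbrev q2 : QuadraticForm (ZMod 2) (I2 → ZMod 2) := minusQ 0 1 1

/-- The whole space. -/
abbrev V : Type := I6 ⊕ I2 → ZMod 2

/-- The whole form. -/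
abbrev q8 : QuadraticForm (ZMod 2) V := sumQ q6 q2

theorem aniso : ∀ z₁ z₂ : ZMod 2, z₁ ^ 2 + 1 * z₁ * z₂ + 1 * z₂ ^ 2 = 0 → z₁ = 0 ∧ z₂ = 0 := by
  decide

theorem nondeg6 : (polarBilin q6).Nondegenerate := minusQ_nondeg aniso 2

theorem nondeg2 : (polarBilin q2).Nondegenerate := minusQ_nondeg aniso 0

theorem nondeg8 : (polarBilin q8).Nondegenerate := sumQ_nondeg nondeg6 nondeg2

theorem hgen6 : (∃ t : ZMod 2, t ≠ 0 ∧ t ≠ 1) ∨ Module.finrank (ZMod 2) (I6 → ZMod 2) ≠ 4 :=
  Or.inr (by simp)

theorem hgen8 : (∃ t : ZMod 2, t ≠ 0 ∧ t ≠ 1) ∨ Module.finrank (ZMod 2) V ≠ 4 :=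
  Or.inr (by simp)

/-- Coordinates in the hyperbolic space. -/
def toPlus (v : V) : P8 → ZMod 2 :=
  Sum.elim
    ![v (.inl (.inl (.inl 0))), v (.inl (.inl (.inl 1))), v (.inl (.inr 0)) + v (.inr (.inr 0)),
      v (.inl (.inr 0)) + v (.inl (.inr 1)) + v (.inr (.inr 1))]
    ![v (.inl (.inl (.inr 0))), v (.inl (.inl (.inr 1))), v (.inl (.inr 1)) + v (.inr (.inr 0)),
      v (.inl (.inr 0)) + v (.inl (.inr 1)) + v (.inr (.inr 0)) + v (.inr (.inr 1))]

theorem toPlus_add (u v : V) : toPlus (u + v) = toPlus u + toPlus v := by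
  funext k
  rcases k with k | k <;> fin_cases k <;> simp [toPlus] <;> ring

theorem toPlus_inj : ∀ v, toPlus v = 0 → v = 0 := by decide +kernel

theorem toPlus_form : ∀ v : V, plusQ 4 (toPlus v) = q8 v := by
  intro v
  rw [plusQ_coe, sumQ_coe, minusQ_coe, minusQ_coe]
  revert v
  simp only [Cfsg.quadFormPlus, Cfsg.quadFormMinus, Function.comp_apply]
  decide +kernel

/-- The identification of the two spaces. -/
noncomputable def plusEquiv : V ≃ₗ[ZMod 2] (P8 → ZMod 2) :=
  LinearEquiv.ofBijective ((AddMonoidHom.mk' toPlus toPlus_add).toZModLinearMap 2) (by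
    refine (Fintype.bijective_iff_injective_and_card _).2 ⟨?_, by simp⟩
    exact (injective_iff_map_eq_zero _).2 toPlus_inj)

theorem index_omega8 : (commutator (oGroup q8)).index = 2 :=
  index_commutator_char_two nondeg8 (by simp) hgen8

theorem card_o8 : Nat.card (oGroup q8) = Nat.card (oGroup (plusQ (F := ZMod 2) 4)) :=
  Nat.card_congr (oGroupCongr plusEquiv fun v => toPlus_form v).toEquiv

/-! ### The six-dimensional commutator group -/

theorem simple6 : IsSimpleGroup ↥(commutator (oGroup q6)) := by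
  haveI := isSimpleGroup_omega (Q := q6) nondeg6 (by simp)
  exact ((QuotientGroup.quotientMulEquivOfEq (Subgroup.eq_bot_of_card_eq _
    (card_center_omega_one nondeg6 (by simp) (Or.inl (by decide))))).trans
      QuotientGroup.quotientBot).symm.isSimpleGroup

theorem card_omega6 : Nat.card ↥(commutator (oGroup q6)) = 25920 := by
  have h1 := Subgroup.index_mul_card (commutator (oGroup q6))
  rw [index_commutator_char_two nondeg6 (by simp) hgen6] at h1
  have h2 : (Nat.card (oGroup q6) : ℤ) = _ :=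
    card_oGroup_minus (F := ZMod 2) (q := 2) (by simp) aniso 2
  rw [← h1, Nat.cast_mul] at h2
  norm_num [Finset.prod_range_succ] at h2
  omega

/-! ### The element of order three -/

/-- The first vector of the small summand. -/
def e1 : I2 → ZMod 2 := Sum.elim 0 ![1, 0]

/-- The second vector of the small summand. -/
def e2 : I2 → ZMod 2 := Sum.elim 0 ![0, 1]

theorem q8_right (d : I2 → ZMod 2) : q8 (Sum.elim 0 d) = q2 d := by
  simp [sumQ_coe]

theorem q2_e : q2 e1 = 1 ∧ q2 e2 = 1 := by
  constructor <;> simp [minusQ_coe, Cfsg.quadFormMinus, e1, e2]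

/-- The element of order three, fixing the six-dimensional summand. -/
def a3 : oGroup q8 := refl q8 (Sum.elim 0 e1) * refl q8 (Sum.elim 0 e2)

theorem a3_mem : a3 ∈ commutator (oGroup q8) := by
  refine refl_pair_mem_commutator nondeg8 ?_ ?_ (isSquare_char_two _) <;>
    rw [q8_right] <;> simp [q2_e.1, q2_e.2]

/-- The rotation of the small summand. -/
def rot (d : I2 → ZMod 2) : I2 → ZMod 2 := Sum.elim 0 ![d (.inr 1), d (.inr 0) + d (.inr 1)]

theorem a3_apply (v : V) : a3.1 v = Sum.elim (v ∘ Sum.inl) (rot (v ∘ Sum.inr)) := by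
  show (refl q8 _).1 ((refl q8 _).1 v) = _
  rw [refl_apply, refl_apply, q8_right, q8_right, q2_e.1, q2_e.2]
  simp only [polar, sumQ_coe, minusQ_coe, Cfsg.quadFormMinus]
  revert v
  decide +kernel

theorem rot_three : ∀ d, rot (rot (rot d)) = d := by decide +kernel

theorem rot_fix : ∀ d, rot d = d → d = 0 := by decide +kernel

theorem a3_pow : a3 ^ 3 = 1 := by
  refine Subtype.ext (LinearEquiv.ext fun v => ?_)
  show a3.1 (a3.1 (a3.1 v)) = v
  simp only [a3_apply, Sum.elim_comp_inl, Sum.elim_comp_inr, rot_three]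
  exact Sum.elim_comp_inl_inr v

theorem fix_iff (v : V) : a3.1 v = v ↔ v ∘ Sum.inr = 0 := by
  constructor
  · intro h
    refine rot_fix _ ?_
    conv_rhs => rw [← h, a3_apply, Sum.elim_comp_inr]
  · intro h
    rw [a3_apply, h, show rot 0 = 0 by decide +kernel, ← h]
    exact Sum.elim_comp_inl_inr v

theorem a3_ne : a3 ≠ 1 := by
  intro h
  have := (fix_iff (Sum.elim 0 e1)).1 (by rw [h]; rfl)
  rw [Sum.elim_comp_inr] at this
  exact absurd this (by decide +kernel)

theorem rot_two : ∀ d, rot (rot d) = rot d + d := by decide +kernel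

theorem norm_one (d : I2 → ZMod 2) (h : q2 d = 1) : d = e1 ∨ d = rot e1 ∨ d = rot (rot e1) := by
  have key : ∀ d : I2 → ZMod 2, d ≠ 0 → d = e1 ∨ d = rot e1 ∨ d = rot (rot e1) := by decide +kernel
  refine key d fun h0 => ?_
  rw [h0, QuadraticMap.map_zero] at h
  exact zero_ne_one h

theorem decomp : ∀ d : I2 → ZMod 2, d = d (.inr 0) • e1 + d (.inr 1) • rot e1 := by decide +kernel

theorem rot_add : ∀ d d', rot (d + d') = rot d + rot d' := by decide +kernel

theorem rot_smul : ∀ (c : ZMod 2) d, rot (c • d) = c • rot d := by decide +kernel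

end CfsgLib.SuzSection
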