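import Cfsg.Agent.Co1Cent.Main
import Cfsg.Agent.SuzSection.Form
import Cfsg.Agent.Quad.IsoCriterion
import Cfsg.Agent.Golay.TableHom

/-!
Coordinates on the extraspecial kernel of the involution centraliser in the first Conway group, and
the action on them.
-/

set_option autoImplicit false
set_option maxRecDepth 100000
set_option maxHeartbeats 1000000

namespace CfsgLib.SuzSection

open Cfsg CfsgLib CfsgLib.Golay CfsgLib.Co1Cent
open CfsgLib.Golay.Cert (genOK ofList toList_ofList toList_coe_injective)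

attribute [local irreducible] CfsgLib.Leech.shortVecs CfsgLib.Leech.halfTable CfsgLib.Leech.quarterTable

/-- Code coordinates of four octads off the octad. -/
def wCodes : Fin 4 → ℕ := ![208, 256, 592, 1088]

/-- Four permutations, dual to the octads. -/
def sL : Fin 4 → List ℕ := ![
  [0, 1, 2, 3, 9, 5, 12, 11, 21, 4, 22, 7, 6, 15, 14, 13, 20, 17, 19, 18, 16, 8, 10, 23],
  [0, 1, 2, 3, 13, 5, 19, 21, 11, 15, 20, 8, 18, 4, 14, 9, 22, 17, 12, 6, 10, 7, 16, 23],
  [0, 1, 2, 3, 7, 5, 22, 4, 15, 11, 12, 9, 10, 21, 14, 8, 19, 17, 20, 16, 18, 13, 6, 23],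
  [0, 1, 2, 3, 6, 5, 4, 22, 20, 12, 11, 10, 9, 19, 14, 18, 21, 17, 15, 13, 8, 16, 7, 23]]

/-- The sign part. -/
def wv (x : Fin 4 → ZMod 2) : golayCode :=
  ∑ i, x i • (⟨vec (word (wCodes i)), vec_word_mem _⟩ : golayCode)

/-- Its values. -/
def wsum (x : Fin 4 → ZMod 2) (p : GolayPt) : ZMod 2 := ∑ i, x i * vec (word (wCodes i)) p

theorem wv_apply (x : Fin 4 → ZMod 2) (p : GolayPt) : (wv x : GolayPt → ZMod 2) p = wsum x p := by
  simp [wv, wsum, Fin.sum_univ_four]

theorem wv_add (x y : Fin 4 → ZMod 2) : wv (x + y) = wv x + wv y := by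
  refine Subtype.ext (funext fun p => ?_)
  show (wv (x + y) : GolayPt → ZMod 2) p = (wv x : GolayPt → ZMod 2) p + (wv y : GolayPt → ZMod 2) p
  rw [wv_apply, wv_apply, wv_apply]
  simp only [wsum, Pi.add_apply, add_mul, Finset.sum_add_distrib]

theorem genOK_sL : ∀ i, genOK (sL i) = true := by decide +kernel

/-- One factor. -/
noncomputable def sFac (i : Fin 4) (c : ZMod 2) : M24 := if c = 1 then ofListM i else 1
where
  /-- The permutation. -/
  ofListM (i : Fin 4) : M24 := ofList (sL i)

/-- The permutation part. -/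
noncomputable def sv (y : Fin 4 → ZMod 2) : M24 :=
  sFac 0 (y 0) * sFac 1 (y 1) * sFac 2 (y 2) * sFac 3 (y 3)

/-- Its list. -/
def fLv (i : Fin 4) (c : ZMod 2) : List ℕ := if c = 1 then sL i else List.range 24

/-- Its list. -/
def sLv (y : Fin 4 → ZMod 2) : List ℕ :=
  compL (compL (compL (fLv 0 (y 0)) (fLv 1 (y 1))) (fLv 2 (y 2))) (fLv 3 (y 3))

theorem toList_sFac (i : Fin 4) (c : ZMod 2) :
    toList (sFac i c : Equiv.Perm GolayPt) = fLv i c := by
  unfold sFac fLv
  split
  · exact toList_ofList (genOK_sL i)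
  · exact toList_one

theorem toList_sv (y : Fin 4 → ZMod 2) : toList (sv y : Equiv.Perm GolayPt) = sLv y := by
  simp only [sv, Subgroup.coe_mul, toList_mul, toList_sFac, sLv]

theorem sLv_add : ∀ y z : Fin 4 → ZMod 2, compL (sLv y) (sLv z) = sLv (y + z) := by decide +kernel

theorem sLv_zero : sLv 0 = List.range 24 := by decide +kernel

theorem sv_add (y z : Fin 4 → ZMod 2) : sv (y + z) = sv y * sv z := by
  refine toList_coe_injective ?_
  show toList (sv (y + z) : Equiv.Perm GolayPt) = toList ((sv y * sv z : M24) : Equiv.Perm GolayPt)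
  rw [Subgroup.coe_mul, toList_mul, toList_sv, toList_sv, toList_sv, sLv_add]

theorem sv_zero : sv 0 = 1 := by
  refine toList_coe_injective ?_
  show toList (sv 0 : Equiv.Perm GolayPt) = toList ((1 : M24) : Equiv.Perm GolayPt)
  rw [toList_sv, sLv_zero, OneMemClass.coe_one, toList_one]

theorem wsum_oct : ∀ x : Fin 4 → ZMod 2, ∀ p : GolayPt, p ∈ oct → wsum x p = 0 := by decide +kernel

theorem sLv_oct : ∀ y : Fin 4 → ZMod 2, ∀ i ∈ oPos, (sLv y).getD i 0 = i := by decide +kernel

theorem wsum_ne : ∀ x : Fin 4 → ZMod 2, x ≠ 0 →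
    (∃ p, wsum x p ≠ 0) ∧ ∃ p, p ∉ oct ∧ wsum x p = 0 := by decide +kernel

theorem sLv_eq_range : ∀ y : Fin 4 → ZMod 2, sLv y = List.range 24 → y = 0 := by decide +kernel

theorem wsum_form : ∀ x y : Fin 4 → ZMod 2,
    wsum x (pt 4) + wsum x (pt ((sLv y).getD (idx (pt 4)) 0)) = ∑ i, x i * y i := by decide +kernel

theorem off_wv (x : Fin 4 → ZMod 2) : Off (wv x) := fun p hp => by rw [wv_apply, wsum_oct x p hp]

theorem fixes_sv (y : Fin 4 → ZMod 2) : Fixes (sv y) := fun p hp => idx_injective (by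
  rw [← toList_getD_idx, toList_sv, sLv_oct y _ ((oPos_spec p).1 hp)])

/-- The sign coordinates of a vector. -/
def xc (v : V) : Fin 4 → ZMod 2 := fun i => toPlus v (.inl i)

/-- The permutation coordinates of a vector. -/
def yc (v : V) : Fin 4 → ZMod 2 := fun i => toPlus v (.inr i)

theorem xc_add (u v : V) : xc (u + v) = xc u + xc v := by funext i; simp [xc, toPlus_add]

theorem yc_add (u v : V) : yc (u + v) = yc u + yc v := by funext i; simp [yc, toPlus_add]

/-- The chosen lift of a vector. -/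
noncomputable def lift8 (v : V) : Co0 := Leech.monoAut (wv (xc v), sv (yc v))

theorem lift8_mem (v : V) : lift8 v ∈ qp := mem_qp_iff.2 ⟨_, _, off_wv _, fixes_sv _, rfl⟩

theorem lift8_mul (u v : V) : lift8 u * lift8 v = lift8 (u + v) ∨ lift8 u * lift8 v = zz * lift8 (u + v) := by
  rw [lift8, lift8, lift8, monoAut_mul', ← sv_add, ← yc_add, xc_add, wv_add,
    show wv (xc u) + shift (sv (yc u)) (wv (xc v)) =
      (wv (xc v) + shift (sv (yc u)) (wv (xc v))) + (wv (xc u) + wv (xc v)) by
        conv_lhs => rw [← zero_add (shift _ _), ← add_self_code (wv (xc v))]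
        abel]
  rcases shift_cases (fixes_sv (yc u)) (off_wv (xc v)) with h | h <;> rw [h]
  · rw [zero_add]; exact Or.inl rfl
  · right
    rw [Leech.monoAut, Leech.monoAut, zz, ← mul_assoc, Leech.signAut_mul]

theorem eq_zero_of_lift8 (v : V) (h : lift8 v = 1 ∨ lift8 v = zz) : v = 0 := by
  have hx : xc v = 0 ∧ yc v = 0 := by
    by_contra hne
    have key : ∀ u : golayCode, (u = 0 ∨ u = coWord) → Leech.monoAut (wv (xc v), sv (yc v)) = Leech.signAut u → False := by
      intro u hu hm
      rw [Leech.signAut_eq_monoAut] at hm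
      obtain ⟨h1, h2⟩ := Prod.ext_iff.1 (Leech.monoAut_injective hm)
      have hy : yc v = 0 := sLv_eq_range _ (by
        rw [← toList_sv]
        exact (congrArg (fun s : M24 => toList (s : Equiv.Perm GolayPt)) h2).trans toList_one)
      refine hne ⟨by_contra fun hx => ?_, hy⟩
      obtain ⟨⟨p, hp⟩, q, hq, hq0⟩ := wsum_ne _ hx
      simp only at h1
      rcases hu with rfl | rfl
      · exact hp (by rw [← wv_apply, h1]; rfl)
      · rw [← wv_apply, h1, coWord_apply, if_neg hq] at hq0
        exact one_ne_zero hq0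
    rcases h with h | h
    · exact key 0 (Or.inl rfl) (h.trans Leech.signAut_zero.symm)
    · exact key coWord (Or.inr rfl) h
  refine toPlus_inj v (funext fun k => ?_)
  rcases k with k | k
  · exact congrFun hx.1 k
  · exact congrFun hx.2 k

theorem lift8_sq (v : V) : lift8 v * lift8 v = zz ↔ q8 v = 1 := by
  have hw := shift_cases (fixes_sv (yc v)) (off_wv (xc v))
  have hval : (wv (xc v) + shift (sv (yc v)) (wv (xc v)) : golayCode).1 (pt 4) = q8 v := by
    show (wv (xc v) : GolayPt → ZMod 2) (pt 4) +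
      (wv (xc v) : GolayPt → ZMod 2) ((sv (yc v) : Equiv.Perm GolayPt)⁻¹ (pt 4)) = _
    rw [← InvMemClass.coe_inv, inv_eq_of_mul_eq_one_right (fixes_sq (fixes_sv (yc v))), wv_apply, wv_apply,
      ← pt_idx ((sv (yc v) : Equiv.Perm GolayPt) (pt 4)), ← toList_getD_idx, toList_sv, wsum_form,
      ← toPlus_form, Quad.plusQ_coe]
    rfl
  rw [lift8, monoAut_mul', fixes_sq (fixes_sv (yc v)), ← Leech.signAut_eq_monoAut]
  have hne : (1 : Co0) ≠ zz := fun h => by
    have h1 : lift8 0 * lift8 0 = lift8 0 * lift8 0 := rfl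
    have hco := congrArg (fun k : golayCode × M24 => (k.1 : GolayPt → ZMod 2) (pt 4))
      (Leech.monoAut_injective ((Leech.signAut_eq_monoAut 0).symm.trans
        (Leech.signAut_zero.trans (h.trans (Leech.signAut_eq_monoAut coWord)))))
    simp [coWord_apply, outside_exists] at hco
  rcases hw with h | h <;> rw [h] at hval ⊢
  · rw [Leech.signAut_zero]
    refine ⟨fun e => absurd e hne, fun e => ?_⟩
    rw [e] at hval
    exact absurd hval zero_ne_one
  · refine ⟨fun _ => ?_, fun _ => rfl⟩
    rw [← hval, coWord_apply, if_neg outside_exists]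

/-! ### In the centraliser -/

/-- The central element. -/
noncomputable def zQ : c1 := proj ⟨zz, zz_mem.1⟩

/-- The lift of a vector. -/
noncomputable def E (v : V) : c1 := proj ⟨lift8 v, (lift8_mem v).1⟩

theorem zQ_coe : (zQ : Spor.Co1) = zC := by
  show mk1 zz = mk1 octFlip
  rw [zz_eq, map_mul, mk1_eq_one.2 (Or.inr rfl), mul_one]

theorem zQ_comm (g : c1) : g * zQ = zQ * g :=
  Subtype.ext (by
    show (g : Spor.Co1) * (zQ : Spor.Co1) = (zQ : Spor.Co1) * (g : Spor.Co1)
    rw [zQ_coe]
    exact Subgroup.mem_centralizer_singleton_iff.1 g.2)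

theorem zQ_mem : zQ ∈ qC := (mem_qC _).2 ⟨zz, zz_mem, rfl⟩

theorem E_mem (v : V) : E v ∈ qC := (mem_qC _).2 ⟨_, lift8_mem v, rfl⟩

theorem zQ_sq : zQ * zQ = 1 := Subtype.ext (by
  show (zQ : Spor.Co1) * (zQ : Spor.Co1) = 1
  rw [zQ_coe, ← pow_two, ← orderOf_zC, pow_orderOf_eq_one])

theorem zQ_ne : zQ ≠ 1 := fun h => by
  have h1 : (zQ : Spor.Co1) = 1 := congrArg Subtype.val h
  rw [zQ_coe] at h1
  have := orderOf_zC
  rw [h1, orderOf_one] at this
  omega

theorem E_mul (u v : V) : E u * E v = E (u + v) ∨ E u * E v = zQ * E (u + v) := by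
  rcases lift8_mul u v with h | h
  · left
    exact Subtype.ext ((map_mul mk1 _ _).symm.trans (congrArg mk1 h))
  · right
    exact Subtype.ext ((map_mul mk1 _ _).symm.trans ((congrArg mk1 h).trans (map_mul mk1 _ _)))

theorem E_eq_zero {v : V} (h : E v = 1 ∨ E v = zQ) : v = 0 := by
  refine eq_zero_of_lift8 v ?_
  rcases h with h | h
  · exact Or.inl (mk1_inj_qp (lift8_mem v) (one_mem _) ((congrArg Subtype.val h).trans (map_one mk1).symm))
  · exact Or.inr (mk1_inj_qp (lift8_mem v) zz_mem (congrArg Subtype.val h))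

theorem E_inj {u v : V} (h : E u = E v ∨ E u = zQ * E v) : u = v := by
  have hvv : v + v = 0 := by funext k; exact CharTwo.add_self_eq_zero _
  have h0 : E 0 = 1 ∨ E 0 = zQ := by
    rcases E_mul 0 0 with e | e <;> rw [add_zero] at e
    · exact Or.inl (by simpa using e)
    · exact Or.inr (mul_right_cancel e)
  have key : E (u + v) = 1 ∨ E (u + v) = zQ := by
    rcases E_mul u v with e | e <;> rcases h with h | h <;> rw [h] at e <;>
      rcases E_mul v v with f | f <;> rw [hvv] at f <;> rcases h0 with g | g <;> rw [g] at f <;>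
      simp only [mul_assoc, f, zQ_sq, mul_one, one_mul] at e <;>
      first
        | exact Or.inl e.symm
        | exact Or.inr e.symm
        | (refine Or.inr ?_; rw [← one_mul (E (u + v)), ← zQ_sq, mul_assoc, ← e, mul_one])
        | (refine Or.inl ?_; rw [← one_mul (E (u + v)), ← zQ_sq, mul_assoc, ← e, zQ_sq])
  have := E_eq_zero key
  funext k
  exact CharTwo.add_eq_zero.1 (congrFun this k)

theorem qC_card : Nat.card qC = 512 := by rw [← Nat.card_congr qEquiv.toEquiv, card_qp]

theorem exists_crd (g : c1) : ∃ v : V, g ∈ qC → g = E v ∨ g = zQ * E v := by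
  by_cases hg : g ∈ qC
  swap
  · exact ⟨0, fun h => absurd h hg⟩
  haveI := finite_c1
  let f : V × Bool → qC := fun p => ⟨cond p.2 zQ 1 * E p.1, mul_mem (by cases p.2; exacts [one_mem _, zQ_mem]) (E_mem _)⟩
  have hinj : Function.Injective f := by
    rintro ⟨u, a⟩ ⟨v, b⟩ h
    have h' := congrArg Subtype.val h
    have huv : u = v := by
      refine E_inj ?_
      cases a <;> cases b <;> simp [f] at h'
      · exact Or.inl h'
      · exact Or.inr h'
      · exact Or.inr (by rw [← h', ← mul_assoc, zQ_sq, one_mul])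
      · exact Or.inl h'
    subst huv
    refine Prod.ext rfl ?_
    cases a <;> cases b <;> simp [f] at h' ⊢
    all_goals first | exact zQ_ne (by simpa using h'.symm) | exact zQ_ne (by simpa using h')
  have hb := hinj.bijective_of_nat_card_le (by rw [qC_card, Nat.card_prod]; simp)
  obtain ⟨⟨v, b⟩, hv⟩ := hb.2 ⟨g, hg⟩
  refine ⟨v, fun _ => ?_⟩
  have h' : cond b zQ 1 * E v = g := congrArg Subtype.val hv
  cases b
  · exact Or.inl (by rw [← h', cond_false, one_mul])
  · exact Or.inr h'.symm

/-- The coordinates. -/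
noncomputable def crd (g : c1) : V := (exists_crd g).choose

theorem crd_spec {g : c1} (hg : g ∈ qC) : g = E (crd g) ∨ g = zQ * E (crd g) :=
  (exists_crd g).choose_spec hg

theorem crd_eq {g : c1} {v : V} (h : g = E v ∨ g = zQ * E v) : crd g = v := by
  have hg : g ∈ qC := by
    rcases h with rfl | rfl
    exacts [E_mem v, mul_mem zQ_mem (E_mem v)]
  refine E_inj ?_
  rcases h with h | h <;> rcases crd_spec hg with e | e <;> rw [e] at h
  · exact Or.inl h
  · exact Or.inr (by rw [← h, ← mul_assoc, zQ_sq, one_mul])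
  · exact Or.inr h
  · exact Or.inl (mul_left_cancel h)

theorem crd_E (v : V) : crd (E v) = v := crd_eq (Or.inl rfl)

theorem crd_mul {g h : c1} (hg : g ∈ qC) (hh : h ∈ qC) : crd (g * h) = crd g + crd h := by
  refine crd_eq ?_
  have hz : ∀ x : c1, zQ * (zQ * x) = x := fun x => by rw [← mul_assoc, zQ_sq, one_mul]
  have hc : ∀ x y : c1, x * (zQ * y) = zQ * (x * y) := fun x y => by rw [← mul_assoc, zQ_comm, mul_assoc]
  rcases crd_spec hg with e | e <;> rcases crd_spec hh with f | f <;>
    refine Or.imp (fun a => (congrArg₂ (· * ·) e f).trans a) (fun a => (congrArg₂ (· * ·) e f).trans a) ?_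
  all_goals
    rcases E_mul (crd g) (crd h) with m | m <;> simp only [hc, mul_assoc, m, hz] <;> tauto

theorem crd_one : crd 1 = 0 := by
  have h := crd_mul (one_mem qC) (one_mem qC)
  rw [mul_one] at h
  exact left_eq_add.1 h

theorem crd_zQ : crd zQ = 0 := by
  refine crd_eq ?_
  rcases E_mul 0 0 with e | e <;> rw [add_zero] at e
  · exact Or.inr (by rw [show E 0 = 1 by simpa using e, mul_one])
  · exact Or.inl (mul_right_cancel e).symm

theorem crd_eq_zero {g : c1} (hg : g ∈ qC) (h : crd g = 0) : g = 1 ∨ g = zQ := by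
  rcases crd_spec hg with e | e <;> rw [h] at e <;> rcases E_mul 0 0 with f | f <;> rw [add_zero] at f
  · exact Or.inl (e.trans (by simpa using f))
  · exact Or.inr (e.trans (mul_right_cancel f))
  · exact Or.inr (by rw [e, show E 0 = 1 by simpa using f, mul_one])
  · exact Or.inl (by rw [e, mul_right_cancel f, zQ_sq])

theorem crd_inv {g : c1} (hg : g ∈ qC) : crd g⁻¹ = crd g := by
  have h := crd_mul hg (inv_mem hg)
  rw [mul_inv_cancel, crd_one] at h
  funext k
  exact (CharTwo.add_eq_zero.1 (congrFun h k).symm).symm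

theorem sq_iff {g : c1} (hg : g ∈ qC) : g * g = zQ ↔ q8 (crd g) = 1 := by
  have key : ∀ v, E v * E v = zQ ↔ q8 v = 1 := fun v => by
    rw [← lift8_sq]
    constructor
    · intro h
      refine mk1_inj_qp (mul_mem (lift8_mem v) (lift8_mem v)) zz_mem ?_
      rw [map_mul]
      exact congrArg Subtype.val h
    · intro h
      exact Subtype.ext ((map_mul mk1 _ _).symm.trans (congrArg mk1 h))
  rcases crd_spec hg with e | e
  · conv_lhs => rw [e]
    exact key _
  · conv_lhs => rw [e]
    rw [show zQ * E (crd g) * (zQ * E (crd g)) = E (crd g) * E (crd g) by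
      rw [mul_assoc, ← mul_assoc (E (crd g)) zQ, zQ_comm, mul_assoc, ← mul_assoc, zQ_sq, one_mul]]
    exact key _

/-! ### The action -/

theorem conj_mem (g : c1) {x : c1} (hx : x ∈ qC) : g * x * g⁻¹ ∈ qC :=
  (inferInstance : qC.Normal).conj_mem x hx g

theorem crd_conj (g : c1) {x : c1} (hx : x ∈ qC) :
    crd (g * x * g⁻¹) = crd (g * E (crd x) * g⁻¹) := by
  rcases crd_spec hx with e | e
  · rw [← e]
  · conv_lhs => rw [e]
    rw [show g * (zQ * E (crd x)) * g⁻¹ = zQ * (g * E (crd x) * g⁻¹) by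
      rw [← mul_assoc, zQ_comm]; group, crd_mul zQ_mem (conj_mem g (E_mem _)), crd_zQ, zero_add]

/-- The action on coordinates. -/
noncomputable def actFun (g : c1) : V →ₗ[ZMod 2] V :=
  (AddMonoidHom.mk' (fun v => crd (g * E v * g⁻¹)) fun u v => by
    rw [← crd_mul (conj_mem g (E_mem u)) (conj_mem g (E_mem v)),
      show g * E u * g⁻¹ * (g * E v * g⁻¹) = g * (E u * E v) * g⁻¹ by group,
      crd_conj g (mul_mem (E_mem u) (E_mem v)), crd_mul (E_mem u) (E_mem v), crd_E, crd_E]).toZModLinearMap 2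

theorem actFun_apply (g : c1) (v : V) : actFun g v = crd (g * E v * g⁻¹) := rfl

theorem actFun_crd (g : c1) {x : c1} (hx : x ∈ qC) : actFun g (crd x) = crd (g * x * g⁻¹) :=
  (crd_conj g hx).symm

theorem actFun_mul (g h : c1) (v : V) : actFun (g * h) v = actFun g (actFun h v) := by
  rw [actFun_apply h, actFun_crd g (conj_mem h (E_mem v)), actFun_apply]
  congr 1
  group

theorem actFun_one (v : V) : actFun 1 v = v := by
  rw [actFun_apply, one_mul, inv_one, mul_one, crd_E]

theorem actFun_bij (g : c1) : Function.Bijective (actFun g) :=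
  ⟨fun x y h => by
      have := congrArg (actFun g⁻¹) h
      rwa [← actFun_mul, ← actFun_mul, inv_mul_cancel, actFun_one, actFun_one] at this,
    fun y => ⟨actFun g⁻¹ y, by rw [← actFun_mul, mul_inv_cancel, actFun_one]⟩⟩

/-- The action, as an equivalence. -/
noncomputable def actEquiv (g : c1) : V ≃ₗ[ZMod 2] V := LinearEquiv.ofBijective (actFun g) (actFun_bij g)

theorem actEquiv_apply (g : c1) (v : V) : actEquiv g v = actFun g v :=
  LinearEquiv.ofBijective_apply _ _

attribute [local irreducible] actFun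

theorem actEquiv_form (g : c1) (v : V) : q8 (actEquiv g v) = q8 v := by
  have h01 : ∀ a b : ZMod 2, (a = 1 ↔ b = 1) → a = b := by decide
  refine h01 _ _ ?_
  have h1 := sq_iff (conj_mem g (E_mem v))
  have h2 := sq_iff (E_mem v)
  rw [crd_E] at h2
  rw [actEquiv_apply, actFun_apply, ← h1, ← h2,
    show g * E v * g⁻¹ * (g * E v * g⁻¹) = g * (E v * E v) * g⁻¹ by group, mul_inv_eq_iff_eq_mul,
    ← zQ_comm]
  exact mul_right_inj g

/-- The action of the centraliser on the coordinates. -/
noncomputable def theta : c1 →* Quad.oGroup q8 :=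
  MonoidHom.mk' (fun g => ⟨actEquiv g, actEquiv_form g⟩) fun g h =>
    Subtype.ext (LinearEquiv.ext fun v => by
      show actEquiv (g * h) v = actEquiv g (actEquiv h v)
      rw [actEquiv_apply, actEquiv_apply, actEquiv_apply, actFun_mul])

theorem theta_apply (g : c1) (v : V) : (theta g).1 v = actFun g v := actEquiv_apply g v

theorem theta_crd (g : c1) {x : c1} (hx : x ∈ qC) : (theta g).1 (crd x) = crd (g * x * g⁻¹) := by
  rw [theta_apply, actFun_crd g hx]

theorem moved_check : vec (word 1) (pt 6) + vec (word 1) (pt ((sL 0).getD (idx (pt 6)) 0)) = 1 ∧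
    vec (word 1) (pt 4) + vec (word 1) (pt ((sL 0).getD (idx (pt 4)) 0)) = 0 ∧
    pt 6 ∉ oct ∧ sLv ![1, 0, 0, 0] = sL 0 := by decide +kernel

theorem exists_moved : ∃ g : c1, theta g ≠ 1 := by
  set w : golayCode := ⟨vec (word 1), vec_word_mem _⟩ with hw
  set g : c1 := proj ⟨Leech.signAut w, signAut_mem_c0 w⟩ with hgdef
  refine ⟨g, fun h => ?_⟩
  set v0 : V := plusEquiv.symm (Sum.elim (0 : Fin 4 → ZMod 2) ![1, 0, 0, 0])
  have hp : toPlus v0 = Sum.elim (0 : Fin 4 → ZMod 2) ![1, 0, 0, 0] := plusEquiv.apply_symm_apply _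
  have hx : wv (xc v0) = 0 := by
    rw [show xc v0 = 0 from funext fun i => congrFun hp (.inl i)]
    simp [wv]
  have hy : yc v0 = ![1, 0, 0, 0] := funext fun i => congrFun hp (.inr i)
  have hfix := theta_crd g (E_mem v0)
  rw [h, crd_E] at hfix
  change v0 = _ at hfix
  rcases crd_spec (conj_mem g (E_mem v0)) with e | e <;> rw [← hfix] at e
  all_goals
    have e' := congrArg Subtype.val e
    change mk1 (Leech.signAut w) * mk1 (lift8 v0) * (mk1 (Leech.signAut w))⁻¹ = _ at e'
  pick_goal 1
  · exact moved w hx hy (Or.inl (mk1_inj_qp (conj_qp w v0) (lift8_mem v0) (by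
      rw [map_mul, map_mul, map_inv]; exact e')))
  · exact moved w hx hy (Or.inr (mk1_inj_qp (conj_qp w v0) (mul_mem zz_mem (lift8_mem v0)) (by
      rw [map_mul, map_mul, map_inv]; exact e'.trans (map_mul mk1 _ _).symm)))
where
  conj_qp (w : golayCode) (v : V) : Leech.signAut w * lift8 v * (Leech.signAut w)⁻¹ ∈ qp :=
    ⟨mul_mem (mul_mem (signAut_mem_c0 w) (lift8_mem v).1) (inv_mem (signAut_mem_c0 w)), fun u hu => by
      rw [mul_smul, mul_smul, (lift8_mem v).2 _ (smul_mem_minusPart (inv_mem (signAut_mem_c0 w)) hu),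
        smul_inv_smul]⟩
  moved (w : golayCode) {v0 : V} (hx : wv (xc v0) = 0) (hy : yc v0 = ![1, 0, 0, 0])
      (hwv : (Leech.signAut w * lift8 v0 * (Leech.signAut w)⁻¹ = lift8 v0) ∨
        (Leech.signAut w * lift8 v0 * (Leech.signAut w)⁻¹ = zz * lift8 v0))
      (hw : w = ⟨vec (word 1), vec_word_mem _⟩ := by rfl) : False := by
    have hinv : (Leech.signAut w)⁻¹ = Leech.signAut w :=
      inv_eq_of_mul_eq_one_right (by rw [Leech.signAut_mul, add_self_code, Leech.signAut_zero])
    rw [hinv, lift8, hx, Leech.signAut_eq_monoAut, monoAut_mul', monoAut_mul', zz,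
      Leech.signAut_eq_monoAut, monoAut_mul', one_mul, mul_one] at hwv
    have hinv' := inv_eq_of_mul_eq_one_right (fixes_sq (fixes_sv (yc v0)))
    have val : ∀ p : GolayPt, ((w + shift 1 0 + shift (sv (yc v0)) w : golayCode) : GolayPt → ZMod 2) p =
        vec (word 1) p + vec (word 1) (pt ((sL 0).getD (idx p) 0)) := fun p => by
      show (w : GolayPt → ZMod 2) p + 0 +
        (w : GolayPt → ZMod 2) ((sv (yc v0) : Equiv.Perm GolayPt)⁻¹ p) = _
      rw [← InvMemClass.coe_inv, hinv', ← pt_idx ((sv (yc v0) : Equiv.Perm GolayPt) p), ← toList_getD_idx,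
        toList_sv, hy, moved_check.2.2.2, hw, add_zero]
    obtain ⟨h6, h4, ho, -⟩ := moved_check
    rcases hwv with e | e <;> have hcode := congrArg Prod.fst (Leech.monoAut_injective e) <;>
      simp only at hcode
    · have := val (pt 6)
      rw [hcode, h6] at this
      exact zero_ne_one this
    · have := val (pt 4)
      rw [hcode, h4] at this
      change coWord.1 (pt 4) + 0 = 0 at this
      rw [coWord_apply, if_neg outside_exists] at this
      exact one_ne_zero this

theorem qC_le_ker : qC ≤ theta.ker := by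
  intro q hq
  refine MonoidHom.mem_ker.2 (Subtype.ext (LinearEquiv.ext fun v => ?_))
  show (theta q).1 v = v
  rw [theta_apply]
  rw [actFun_apply, crd_mul (mul_mem hq (E_mem v)) (inv_mem hq), crd_mul hq (E_mem v), crd_inv hq, crd_E]
  funext k
  simp only [Pi.add_apply]
  rw [add_comm, ← add_assoc, CharTwo.add_self_eq_zero, zero_add]

theorem ker_theta : theta.ker = qC := by
  haveI := simple_omega
  haveI : IsSimpleGroup (c1 ⧸ qC) := quotEquiv.isSimpleGroup
  refine le_antisymm ?_ qC_le_ker
  rcases ((inferInstance : theta.ker.Normal).map (QuotientGroup.mk' qC)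
    (QuotientGroup.mk'_surjective qC)).eq_bot_or_eq_top with h | h
  · rw [Subgroup.map_eq_bot_iff, QuotientGroup.ker_mk'] at h
    exact h
  · exfalso
    obtain ⟨g, hg⟩ := exists_moved
    obtain ⟨k, hk, e⟩ := Subgroup.mem_map.1 (h.symm ▸ Subgroup.mem_top (QuotientGroup.mk' qC g))
    refine hg ?_
    rw [QuotientGroup.mk'_apply, QuotientGroup.mk'_apply, QuotientGroup.eq] at e
    have := mul_mem hk (qC_le_ker e)
    rwa [mul_inv_cancel_left] at this

theorem range_theta : theta.range = commutator (Quad.oGroup q8) := by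
  haveI := finite_c1
  haveI : Finite (Quad.oGroup q8) := Finite.of_injective (fun g : Quad.oGroup q8 => (g.1 : V → V))
    fun g h e => Subtype.ext (LinearEquiv.ext fun v => congrFun e v)
  let f : c1 ⧸ qC →* Quad.oGroup q8 := QuotientGroup.lift qC theta ker_theta.ge
  have hf : f.range = theta.range := by
    ext y
    constructor
    · rintro ⟨x, rfl⟩
      obtain ⟨g, rfl⟩ := QuotientGroup.mk_surjective x
      exact ⟨g, rfl⟩
    · rintro ⟨g, rfl⟩
      exact ⟨(g : c1 ⧸ qC), rfl⟩
  have hker : f.ker = ⊥ := (MonoidHom.ker_eq_bot_iff f).2 ((injective_iff_map_eq_one _).2 fun x hx => by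
    obtain ⟨g, rfl⟩ := QuotientGroup.mk_surjective x
    exact (QuotientGroup.eq_one_iff g).2 (ker_theta ▸ hx))
  rw [← hf]
  refine Quad.range_eq_commutator_perfect f ?_ ?_
  · have h := Quad.commutator_commutator_eq_top (Q := Quad.plusQ (F := ZMod 2) 4) (Quad.plusQ_nondeg 4) (by simp)
    rw [eq_top_iff]
    intro x _
    have hx : quotEquiv x ∈ commutator ↥(commutator OPlus) := h.symm ▸ Subgroup.mem_top _
    exact (Quad.mem_commutator_equiv quotEquiv x).1 hx
  · rw [hker, Subgroup.card_bot, one_mul, card_o8, Nat.card_congr quotEquiv.toEquiv]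
    have h := Subgroup.index_mul_card (commutator OPlus)
    rw [Quad.index_commutator_char_two (Quad.plusQ_nondeg 4) (by simp) (Or.inr (by simp))] at h
    exact h

end CfsgLib.SuzSection
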