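import Cfsg.Agent.SuzSection.Coord
import Cfsg.Agent.SuzSection.Cent
import Cfsg.Agent.S5428
import Cfsg.Agent.Golay.OctadPos
import Cfsg.Agent.Golay.StabTools

/-!
A simple section of the first Conway group with an involution centraliser `2^(1+6).Ω⁻(6,2)`: the
centraliser of an element of order three acting on the eight coordinates with six fixed.
-/

set_option autoImplicit false
set_option maxRecDepth 100000
set_option maxHeartbeats 1000000
set_option linter.style.haveILetI false

namespace CfsgLib.SuzSection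

open Cfsg CfsgLib CfsgLib.Golay CfsgLib.Co1Cent Subgroup
open CfsgLib.Quad (oGroup)

attribute [local irreducible] CfsgLib.Leech.shortVecs CfsgLib.Leech.halfTable CfsgLib.Leech.quarterTable

theorem exists_gA : ∃ g : c1, theta g = a3 ∧ g ^ 3 = 1 := by
  obtain ⟨x, hx⟩ : a3 ∈ theta.range := range_theta ▸ a3_mem
  haveI := finite_c1
  have h3 : x ^ 3 ∈ qC := by rw [← ker_theta, MonoidHom.mem_ker, map_pow, hx, a3_pow]
  have h4 : ∀ q ∈ qC, q ^ 4 = (1 : c1) := fun q hq => by
    rcases crd_eq_zero (mul_mem hq hq) (by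
      rw [crd_mul hq hq]; funext k; exact CharTwo.add_self_eq_zero _) with e | e
    · rw [show (4 : ℕ) = 2 + 2 from rfl, pow_add, pow_two, e, one_mul]
    · rw [show (4 : ℕ) = 2 + 2 from rfl, pow_add, pow_two, e, zQ_sq]
  refine ⟨x ^ 4, ?_, ?_⟩
  · rw [map_pow, hx, show (4 : ℕ) = 3 + 1 from rfl, pow_add, a3_pow, one_mul, pow_one]
  · rw [← pow_mul, show 4 * 3 = 3 * 4 from rfl, pow_mul, h4 _ h3]

/-- The element of order three. -/
noncomputable def gA : c1 := exists_gA.choose

theorem theta_gA : theta gA = a3 := exists_gA.choose_spec.1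

theorem gA_pow : gA ^ 3 = 1 := exists_gA.choose_spec.2

theorem gA_ne : gA ≠ 1 := fun h => a3_ne (by rw [← theta_gA, h, map_one])

/-- The same in the whole group. -/
noncomputable def α : Spor.Co1 := (gA : Spor.Co1)

theorem orderOf_α : orderOf α = 3 := by
  haveI : Fact (Nat.Prime 3) := ⟨Nat.prime_three⟩
  exact orderOf_eq_prime (congrArg Subtype.val gA_pow) fun h => gA_ne (Subtype.ext h)

theorem card_α : Nat.card (zpowers α) = 3 := by rw [Nat.card_zpowers, orderOf_α]

/-- Its centraliser in the involution centraliser. -/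
noncomputable abbrev cC : Subgroup c1 := centralizer ({gA} : Set c1)

theorem cC_comm {g : c1} (hg : g ∈ cC) : g * gA = gA * g := mem_centralizer_singleton_iff.1 hg

theorem theta_cent (g : cC) : theta g.1 ∈ cent :=
  mem_centralizer_singleton_iff.2 (by rw [← theta_gA, ← map_mul, ← map_mul, cC_comm g.2])

/-- The action on the six-dimensional summand. -/
noncomputable def psi : cC →* oGroup q6 :=
  restrictHom.comp ((theta.comp cC.subtype).codRestrict cent theta_cent)

theorem psi_apply (g : cC) : psi g = restrictHom ⟨theta g.1, theta_cent g⟩ := rfl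

theorem psi_range : psi.range = commutator (oGroup q6) := by
  refine le_antisymm ?_ ?_
  · rintro _ ⟨g, rfl⟩
    exact restrict_mem _ (show theta g.1 ∈ commutator (oGroup q8) from range_theta ▸ ⟨g.1, rfl⟩)
  · intro h hh
    haveI := finite_c1
    haveI : Fact (Nat.Prime 3) := ⟨Nat.prime_three⟩
    obtain ⟨y, hy⟩ : Quad.extendLeft q6 q2 h ∈ theta.range := range_theta ▸ extend_mem hh
    have hcom : theta y * a3 = a3 * theta y := by
      rw [hy]; exact mem_centralizer_singleton_iff.1 (extend_cent h)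
    -- inside the preimage of the subgroup of order three, correct by Sylow
    set P : Subgroup c1 := (zpowers a3).comap theta with hP
    have hgP : gA ∈ P := by rw [hP, mem_comap, theta_gA]; exact mem_zpowers _
    have hbP : y * gA * y⁻¹ ∈ P := by
      rw [hP, mem_comap, map_mul, map_mul, map_inv, theta_gA, hcom, mul_inv_cancel_right]
      exact mem_zpowers _
    have hord : ∀ g : c1, theta g = a3 → g ^ 3 = 1 → orderOf g = 3 := fun g h1 h2 =>
      orderOf_eq_prime h2 fun e => a3_ne (by rw [← h1, e, map_one])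
    have hb1 : theta (y * gA * y⁻¹) = a3 := by
      rw [map_mul, map_mul, map_inv, theta_gA, hcom, mul_inv_cancel_right]
    have hcardP : Nat.card P = 3 * 512 := by
      have hk : theta.ker ≤ P := fun g hg => by
        rw [hP, mem_comap, MonoidHom.mem_ker.1 hg]; exact one_mem _
      let f : P →* oGroup q8 := theta.comp P.subtype
      have hr : f.range = zpowers a3 := by
        ext t
        constructor
        · rintro ⟨p, rfl⟩; exact p.2
        · intro ht
          obtain ⟨k, rfl⟩ := mem_zpowers_iff.1 ht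
          exact ⟨⟨gA, hgP⟩ ^ k, by rw [map_zpow]; exact congrArg (· ^ k) theta_gA⟩
      have hker : Nat.card f.ker = 512 := by
        rw [← qC_card, ← ker_theta]
        refine Nat.card_congr ⟨fun g => ⟨g.1.1, g.2⟩, fun g => ⟨⟨g.1, hk g.2⟩, g.2⟩, fun g => rfl, fun g => rfl⟩
      have h1 := f.ker.card_mul_index
      rw [index_ker, hr, hker, Nat.card_zpowers,
        orderOf_eq_prime (p := 3) a3_pow a3_ne] at h1
      omega
    have hsyl : ∀ (g : c1) (hg : g ∈ P), theta g = a3 → g ^ 3 = 1 →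
        Nat.card (zpowers (⟨g, hg⟩ : P)) = 3 ^ (Nat.card P).factorization 3 := fun g hg h1 h2 => by
      rw [Nat.card_zpowers, orderOf_mk, hord g h1 h2, hcardP,
        Nat.factorization_def _ Nat.prime_three, padicValNat.mul (by norm_num) (by norm_num),
        padicValNat.self (by norm_num), padicValNat.eq_zero_of_not_dvd (by norm_num)]
      norm_num
    have hb3 : (y * gA * y⁻¹) ^ 3 = 1 := by rw [conj_pow, gA_pow, mul_one, mul_inv_cancel]
    obtain ⟨p, hp⟩ := MulAction.exists_smul_eq P (Sylow.ofCard _ (hsyl _ hbP hb1 hb3))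
      (Sylow.ofCard _ (hsyl gA hgP theta_gA gA_pow))
    have hm : p * ⟨y * gA * y⁻¹, hbP⟩ * p⁻¹ ∈ zpowers (⟨gA, hgP⟩ : P) := by
      have h1 : p * ⟨y * gA * y⁻¹, hbP⟩ * p⁻¹ ∈
          ((p • Sylow.ofCard _ (hsyl _ hbP hb1 hb3) : Sylow 3 P) : Subgroup P) := by
        rw [Sylow.coe_subgroup_smul]
        exact ⟨_, mem_zpowers _, rfl⟩
      rw [hp] at h1
      exact h1
    obtain ⟨k, hk⟩ := mem_zpowers_iff.1 hm
    have hk' : gA ^ k = (p : c1) * (y * gA * y⁻¹) * (p : c1)⁻¹ := congrArg Subtype.val hk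
    obtain ⟨j, hj⟩ := mem_zpowers_iff.1 (show theta p.1 ∈ zpowers a3 from p.2)
    have hth := congrArg theta hk'
    rw [map_zpow, theta_gA, map_mul, map_mul, map_inv, hb1, ← hj,
      show a3 ^ j * a3 * (a3 ^ j)⁻¹ = a3 by group] at hth
    have hgk : gA ^ k = gA := by
      have hz : (3 : ℤ) ∣ k - 1 := by
        have h1 : a3 ^ (k - 1) = 1 := by rw [zpow_sub, hth, zpow_one, mul_inv_cancel]
        have h2 := orderOf_dvd_iff_zpow_eq_one.2 h1
        rwa [orderOf_eq_prime (p := 3) a3_pow a3_ne] at h2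
      obtain ⟨m, hm⟩ := hz
      rw [show k = 3 * m + 1 by omega, zpow_add, zpow_mul, zpow_ofNat, gA_pow, one_zpow, one_mul, zpow_one]
    rw [hgk] at hk'
    have hmem : (p : c1) * y ∈ cC := by
      refine mem_centralizer_singleton_iff.2 ?_
      conv_rhs => rw [hk']
      group
    refine ⟨⟨_, hmem⟩, ?_⟩
    have e : (⟨theta ((p : c1) * y), theta_cent ⟨_, hmem⟩⟩ : cent) =
        ⟨a3, a3_cent⟩ ^ j * ⟨_, extend_cent h⟩ := Subtype.ext (by
      show theta ((p : c1) * y) = a3 ^ j * Quad.extendLeft q6 q2 h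
      rw [map_mul, ← hj, hy])
    rw [psi_apply, e, map_mul, map_zpow, restrict_a3, one_zpow, one_mul, restrict_extend]

/-! ### The centraliser of the element in the kernel -/

/-- The kernel part. -/
noncomputable abbrev Rc : Subgroup cC := qC.subgroupOf cC

theorem left_mem {v : V} (hv : v ∘ Sum.inr = 0) : E v ∈ cC := by
  refine mem_centralizer_singleton_iff.2 ?_
  have h1 : crd (gA * E v * gA⁻¹) = v := by
    conv_rhs => rw [← (fix_iff v).2 hv, ← theta_gA, ← crd_E v, theta_crd gA (E_mem v)]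
  rcases crd_spec (conj_mem gA (E_mem v)) with e | e <;> rw [h1] at e
  · exact (mul_inv_eq_iff_eq_mul.1 e).symm
  · exfalso
    have hz : ∀ x : c1, zQ * (zQ * x) = x := fun x => by rw [← mul_assoc, zQ_sq, one_mul]
    have hc : gA * zQ * gA⁻¹ = zQ := by rw [zQ_comm, mul_inv_cancel_right]
    have h2 : gA * (gA * E v * gA⁻¹) * gA⁻¹ = E v := by
      rw [e, show gA * (zQ * E v) * gA⁻¹ = (gA * zQ * gA⁻¹) * (gA * E v * gA⁻¹) by group, hc, e, hz]
    have h3 : gA ^ 3 * E v * (gA ^ 3)⁻¹ = zQ * E v := by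
      calc gA ^ 3 * E v * (gA ^ 3)⁻¹ = gA * (gA * (gA * E v * gA⁻¹) * gA⁻¹) * gA⁻¹ := by
            simp only [pow_succ, pow_zero, one_mul, mul_inv_rev, mul_assoc]
        _ = gA * E v * gA⁻¹ := by rw [h2]
        _ = zQ * E v := e
    rw [gA_pow, one_mul, inv_one, mul_one] at h3
    exact zQ_ne (mul_right_cancel (h3.symm.trans (one_mul _).symm))

theorem right_zero {r : cC} (hr : r ∈ Rc) : crd r.1 ∘ Sum.inr = 0 := by
  refine (fix_iff _).1 ?_
  rw [← theta_gA, theta_crd gA (show (r : c1) ∈ qC from mem_subgroupOf.1 hr), ← cC_comm r.2, mul_inv_cancel_right]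

/-- The six-dimensional coordinates. -/
noncomputable def crd6 (r : cC) : I6 → ZMod 2 := crd r.1 ∘ Sum.inl

theorem crd_of_crd6 {r : cC} (hr : r ∈ Rc) : crd r.1 = Sum.elim (crd6 r) 0 := by
  rw [← right_zero hr, crd6, Sum.elim_comp_inl_inr]

theorem crd6_mul {r s : cC} (hr : r ∈ Rc) (hs : s ∈ Rc) : crd6 (r * s) = crd6 r + crd6 s := by
  funext k
  simp only [crd6, Subgroup.coe_mul, crd_mul (mem_subgroupOf.1 hr) (mem_subgroupOf.1 hs)]
  rfl

/-- The lift of six-dimensional coordinates. -/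
noncomputable def E6 (x : I6 → ZMod 2) : cC := ⟨E (Sum.elim x 0), left_mem (Sum.elim_comp_inr _ _)⟩

theorem E6_mem (x : I6 → ZMod 2) : E6 x ∈ Rc := E_mem _

theorem crd6_E6 (x : I6 → ZMod 2) : crd6 (E6 x) = x := by
  rw [crd6, E6]
  simp only [crd_E, Sum.elim_comp_inl]

theorem zQ_cC : zQ ∈ cC := mem_centralizer_singleton_iff.2 (zQ_comm gA).symm

/-- The central element in the centraliser. -/
noncomputable def z6 : cC := ⟨zQ, zQ_cC⟩

theorem z6_mem : z6 ∈ Rc := zQ_mem

theorem eq_of_crd6 {r : cC} (hr : r ∈ Rc) (h : crd6 r = 0) : r = 1 ∨ r = z6 := by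
  have h0 : crd r.1 = 0 := by rw [crd_of_crd6 hr, h]; funext k; rcases k with k | k <;> rfl
  rcases crd_eq_zero hr h0 with e | e
  exacts [Or.inl (Subtype.ext e), Or.inr (Subtype.ext e)]

theorem card_Rc : Nat.card Rc = 128 := by
  haveI := finite_c1
  let f : (I6 → ZMod 2) × Bool → Rc := fun p =>
    ⟨cond p.2 z6 1 * E6 p.1, mul_mem (by cases p.2; exacts [one_mem _, z6_mem]) (E6_mem _)⟩
  have hb : Function.Bijective f := by
    constructor
    · rintro ⟨x, a⟩ ⟨y, b⟩ h
      have h' := congrArg (fun r : Rc => crd6 r.1) h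
      have hc : ∀ (a : Bool) (x : I6 → ZMod 2), crd6 (cond a z6 1 * E6 x) = x := fun a x => by
        rw [crd6_mul (by cases a; exacts [one_mem _, z6_mem]) (E6_mem _), crd6_E6]
        cases a
        · show crd (1 : c1) ∘ Sum.inl + x = x
          rw [crd_one]; exact zero_add x
        · show crd zQ ∘ Sum.inl + x = x
          rw [crd_zQ]; exact zero_add x
      simp only [f, hc] at h'
      subst h'
      have h2 : cond a z6 1 = cond b z6 1 := mul_right_cancel (congrArg Subtype.val h)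
      cases a <;> cases b <;> simp at h2 ⊢
      all_goals first
        | exact zQ_ne (congrArg Subtype.val h2)
        | exact zQ_ne (congrArg Subtype.val h2.symm)
    · rintro ⟨r, hr⟩
      have hd : crd6 (r * (E6 (crd6 r))⁻¹) = 0 := by
        rw [crd6_mul hr (inv_mem (E6_mem _))]
        funext k
        have : crd6 (E6 (crd6 r))⁻¹ = crd6 r := by
          show crd ((E6 (crd6 r)).1⁻¹) ∘ Sum.inl = crd6 r
          rw [crd_inv (mem_subgroupOf.1 (E6_mem _))]
          exact crd6_E6 _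
        rw [this]
        exact CharTwo.add_self_eq_zero _
      rcases eq_of_crd6 (mul_mem hr (inv_mem (E6_mem _))) hd with e | e
      · exact ⟨(crd6 r, false), Subtype.ext (by simp [f, mul_inv_eq_one.1 e |>.symm])⟩
      · exact ⟨(crd6 r, true), Subtype.ext (mul_inv_eq_iff_eq_mul.1 e).symm⟩
  rw [← Nat.card_congr (Equiv.ofBijective f hb), Nat.card_prod]
  simp

theorem polar_of_comm {r s : cC} (hr : r ∈ Rc) (hs : s ∈ Rc) (h : r * s = s * r) :
    QuadraticMap.polar q6 (crd6 r) (crd6 s) = 0 := by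
  have hr' := mem_subgroupOf.1 hr
  have hs' := mem_subgroupOf.1 hs
  have hc : (r : c1) * s = (s : c1) * r := congrArg Subtype.val h
  have hsq : ∀ {t : c1}, t ∈ qC → t * t = 1 ∨ t * t = zQ := fun {t} ht =>
    crd_eq_zero (mul_mem ht ht) (by rw [crd_mul ht ht]; funext k; exact CharTwo.add_self_eq_zero _)
  have key : ∀ {t : c1}, t ∈ qC → (t * t = zQ ↔ q8 (crd t) = 1) := fun ht => sq_iff ht
  have hrs : ((r : c1) * s) * ((r : c1) * s) = ((r : c1) * r) * ((s : c1) * s) := by
    rw [mul_assoc, ← mul_assoc (s : c1) r, ← hc, mul_assoc, mul_assoc]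
  have h3 := key (mul_mem hr' hs')
  rw [hrs, crd_mul hr' hs'] at h3
  have h1 := key hr'
  have h2 := key hs'
  have hadd : q8 (crd r.1 + crd s.1) = q8 (crd r.1) + q8 (crd s.1) := by
    have h01 : ∀ a : ZMod 2, a = 0 ∨ a = 1 := by decide
    rcases hsq hr' with e | e <;> rcases hsq hs' with f | f <;> rw [e] at h1 h3 <;> rw [f] at h2 h3 <;>
      simp only [one_mul, mul_one, zQ_sq] at h3
    all_goals
      have n1 : (1 : c1) ≠ zQ := Ne.symm zQ_ne
      simp only [n1, false_iff, true_iff] at h1 h2 h3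
      rcases h01 (q8 (crd r.1)) with a | a <;> rcases h01 (q8 (crd s.1)) with b | b <;>
        rcases h01 (q8 (crd r.1 + crd s.1)) with c | c <;> simp [a, b, c] at h1 h2 h3 ⊢ <;> decide
  rw [crd_of_crd6 hr, crd_of_crd6 hs, ← Quad.elim_add_zero, q8_left, q8_left, q8_left] at hadd
  rw [QuadraticMap.polar, hadd]
  abel

theorem central_Rc {r : cC} (hr : r ∈ Rc) (h : ∀ s ∈ Rc, r * s = s * r) : r = 1 ∨ r = z6 :=
  eq_of_crd6 hr (nondeg6.1 _ fun y => by
    rw [← crd6_E6 y]
    exact polar_of_comm hr (E6_mem y) (h _ (E6_mem y)))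

theorem extraspecial_Rc : Cfsg.IsExtraspecial 2 Rc := by
  haveI := finite_c1
  have hz : (⟨z6, z6_mem⟩ : Rc) ∈ center Rc := mem_center_iff.2 fun g => Subtype.ext (Subtype.ext (zQ_comm _))
  have hcenter : ∀ x : Rc, x ∈ center Rc → x = 1 ∨ x = ⟨z6, z6_mem⟩ := fun x hx =>
    (central_Rc x.2 fun s hs => (congrArg Subtype.val (mem_center_iff.1 hx ⟨s, hs⟩)).symm).imp
      (fun e => Subtype.ext e) (fun e => Subtype.ext e)
  have hc2 : Nat.card (center Rc) = 2 := by
    rw [Nat.card_eq_two_iff]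
    refine ⟨1, ⟨_, hz⟩, fun h => zQ_ne (congrArg (fun y : center Rc => (((y : Rc) : cC) : c1)) h).symm, ?_⟩
    refine Set.eq_univ_iff_forall.2 fun y => ?_
    rcases hcenter y.1 y.2 with h | h
    exacts [Or.inl (Subtype.ext h), Or.inr (Subtype.ext h)]
  have hmem : ∀ x : Rc, crd6 x.1 = 0 → x ∈ center Rc := fun x hx => by
    rcases eq_of_crd6 x.2 hx with e | e
    · rw [show x = 1 from Subtype.ext e]; exact one_mem _
    · rw [show x = ⟨z6, z6_mem⟩ from Subtype.ext e]; exact hz
  refine CfsgLib.Monster.isExtraspecial_of (IsPGroup.of_card (n := 7) (by rw [card_Rc]; norm_num)) hc2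
    (fun a b => hmem _ ?_) (fun a => hmem _ ?_) ?_
  · show crd6 ((a : cC) * b * (a : cC)⁻¹ * (b : cC)⁻¹) = 0
    have hi : ∀ {r : cC}, r ∈ Rc → crd6 r⁻¹ = crd6 r := fun {r} hr => by
      simp only [crd6, InvMemClass.coe_inv, crd_inv (show (r : c1) ∈ qC from mem_subgroupOf.1 hr)]
    rw [crd6_mul (mul_mem (mul_mem a.2 b.2) (inv_mem a.2)) (inv_mem b.2),
      crd6_mul (mul_mem a.2 b.2) (inv_mem a.2), crd6_mul a.2 b.2, hi a.2, hi b.2]
    funext k
    simp only [Pi.add_apply, Pi.zero_apply]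
    generalize crd6 a.1 k = x
    generalize crd6 b.1 k = y
    revert x y
    decide
  · show crd6 ((a : cC) * a) = 0
    rw [crd6_mul a.2 a.2]
    funext k
    exact CharTwo.add_self_eq_zero _
  · by_contra hab
    push Not at hab
    have htop : center Rc = ⊤ := eq_top_iff.2 fun x _ => mem_center_iff.2 fun y => hab y x
    rw [htop, card_top, card_Rc] at hc2
    omega

theorem gA_cC : gA ∈ cC := mem_centralizer_singleton_iff.2 rfl

theorem psi_Rc : Rc ≤ psi.ker := fun r hr => by
  rw [MonoidHom.mem_ker, psi_apply]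
  have h : theta r.1 = 1 := MonoidHom.mem_ker.1 (ker_theta ▸ mem_subgroupOf.1 hr)
  rw [show (⟨theta r.1, theta_cent r⟩ : cent) = 1 from Subtype.ext h, map_one]

theorem psi_gA : psi ⟨gA, gA_cC⟩ = 1 := by
  rw [psi_apply, show (⟨theta gA, theta_cent ⟨gA, gA_cC⟩⟩ : cent) = ⟨a3, a3_cent⟩ from
    Subtype.ext theta_gA, restrict_a3]

theorem ker_psi {g : cC} (hg : psi g = 1) : ∃ r ∈ Rc, ∃ k : ℕ, g = r * ⟨gA, gA_cC⟩ ^ k := by
  obtain ⟨k, hk⟩ := exists_power ⟨theta g.1, theta_cent g⟩
  rw [← psi_apply, hg, map_one, one_mul] at hk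
  refine ⟨g * (⟨gA, gA_cC⟩ ^ k)⁻¹, mem_subgroupOf.2 ?_, k, by group⟩
  rw [← ker_theta, MonoidHom.mem_ker]
  show theta (g.1 * (gA ^ k)⁻¹) = 1
  rw [map_mul, map_inv, map_pow, theta_gA, show theta g.1 = a3 ^ k from hk, mul_inv_cancel]

/-! ### The section -/

/-- The centraliser of the element. -/
noncomputable abbrev Mg : Subgroup Spor.Co1 := centralizer ({α} : Set Spor.Co1)

/-- The subgroup to factor out. -/
noncomputable abbrev Ng : Subgroup Mg := (zpowers α).subgroupOf Mg

instance : (Ng).Normal := by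
  refine ⟨fun n hn g => ?_⟩
  have hc : (g : Spor.Co1) * n = n * g := by
    obtain ⟨k, hk⟩ := mem_zpowers_iff.1 (mem_subgroupOf.1 hn)
    rw [← hk]
    exact ((show Commute (g : Spor.Co1) α from mem_centralizer_singleton_iff.1 g.2).zpow_right k).eq
  rw [show g * n * g⁻¹ = n from Subtype.ext (by
    show (g : Spor.Co1) * n * (g : Spor.Co1)⁻¹ = n
    rw [hc, mul_inv_cancel_right])]
  exact hn

/-- The section. -/
abbrev Sec : Type := Mg ⧸ Ng

theorem coe_mem_Mg (g : cC) : ((g : c1) : Spor.Co1) ∈ Mg :=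
  mem_centralizer_singleton_iff.2 (congrArg Subtype.val (cC_comm g.2))

/-- The inclusion. -/
noncomputable def incl : cC →* Mg := (c1.subtype.comp cC.subtype).codRestrict Mg coe_mem_Mg

/-- The involution. -/
noncomputable def zS : Sec := QuotientGroup.mk' Ng (incl z6)

theorem eq_one_of_sq {x : Spor.Co1} (hx : x ∈ zpowers α) (h2 : x * x = 1) : x = 1 := by
  refine orderOf_eq_one_iff.1 (Nat.eq_one_of_dvd_coprimes (show Nat.Coprime 2 3 by norm_num)
    (orderOf_dvd_of_pow_eq_one (by rw [pow_two]; exact h2)) ?_)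
  rw [← card_α]
  exact Subgroup.orderOf_dvd_natCard _ hx

theorem orderOf_zS : orderOf zS = 2 := by
  refine orderOf_eq_prime (hp := ⟨Nat.prime_two⟩) ?_ fun h => ?_
  · rw [zS, pow_two, ← map_mul, ← map_mul, show z6 * z6 = 1 from Subtype.ext zQ_sq, map_one, map_one]
  · rw [zS, QuotientGroup.mk'_apply, QuotientGroup.eq_one_iff] at h
    have h1 := eq_one_of_sq (mem_subgroupOf.1 h)
      (show (zQ : Spor.Co1) * zQ = 1 from congrArg Subtype.val zQ_sq)
    exact zQ_ne (Subtype.ext h1)

/-- The centraliser of the involution in the section. -/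
noncomputable abbrev cS : Subgroup Sec := centralizer ({zS} : Set Sec)

theorem toS_mem (g : cC) : QuotientGroup.mk' Ng (incl g) ∈ cS := by
  rw [mem_centralizer_singleton_iff, zS, ← map_mul, ← map_mul, ← map_mul, ← map_mul]
  congr 2
  exact Subtype.ext (zQ_comm g.1)

/-- The map onto it. -/
noncomputable def toS : cC →* cS := ((QuotientGroup.mk' Ng).comp incl).codRestrict cS toS_mem

theorem toS_surjective : Function.Surjective toS := by
  rintro ⟨x, hx⟩
  obtain ⟨⟨m, hm⟩, rfl⟩ := QuotientGroup.mk'_surjective Ng x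
  have hm1 : m * α = α * m := mem_centralizer_singleton_iff.1 hm
  have h := mem_centralizer_singleton_iff.1 hx
  rw [zS, ← map_mul, ← map_mul, QuotientGroup.mk'_apply, QuotientGroup.mk'_apply, QuotientGroup.eq] at h
  set z : Spor.Co1 := (zQ : Spor.Co1)
  have hd : (m * z)⁻¹ * (z * m) ∈ zpowers α := mem_subgroupOf.1 h
  set d := (m * z)⁻¹ * (z * m) with hdef
  have hzm : z * m = m * z * d := by rw [hdef, mul_inv_cancel_left]
  have hzz : z * z = 1 := congrArg Subtype.val zQ_sq
  have hza : z * α = α * z := congrArg Subtype.val (zQ_comm gA).symm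
  have hzd : Commute z d := by
    obtain ⟨k, hk⟩ := mem_zpowers_iff.1 hd
    rw [← hk]
    exact (show Commute z α from hza).zpow_right k
  have hdd : d * d = 1 := by
    have h1 : m = m * (d * d) := by
      calc m = z * (z * m) := by rw [← mul_assoc, hzz, one_mul]
        _ = z * m * (z * d) := by
            conv_lhs => rw [hzm]
            simp only [mul_assoc]
        _ = m * z * d * (z * d) := by rw [hzm]
        _ = m * (z * d * (z * d)) := by simp only [mul_assoc]
        _ = m * (d * d) := by rw [hzd.symm.mul_mul_mul_comm z d, hzz, one_mul]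
    exact left_eq_mul.1 h1
  have hd1 := eq_one_of_sq hd hdd
  rw [hd1, mul_one] at hzm
  have hmc : m ∈ c1 := by
    rw [mem_centralizer_singleton_iff, ← zQ_coe]
    exact hzm.symm
  exact ⟨⟨⟨m, hmc⟩, mem_centralizer_singleton_iff.2 (Subtype.ext hm1)⟩, rfl⟩

theorem toS_ker {g : cC} (hg : toS g = 1) : psi g = 1 := by
  have h : QuotientGroup.mk' Ng (incl g) = 1 := congrArg Subtype.val hg
  rw [QuotientGroup.mk'_apply, QuotientGroup.eq_one_iff] at h
  obtain ⟨k, hk⟩ := mem_zpowers_iff.1 (mem_subgroupOf.1 h)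
  have : g = ⟨gA, gA_cC⟩ ^ k := Subtype.ext (Subtype.ext (by
    show ((g : c1) : Spor.Co1) = (((⟨gA, gA_cC⟩ ^ k : cC) : c1) : Spor.Co1)
    rw [SubgroupClass.coe_zpow, SubgroupClass.coe_zpow]
    exact hk.symm))
  rw [this, map_zpow, psi_gA, one_zpow]

/-- The action of the centraliser in the section. -/
noncomputable def psiS : cS →* oGroup q6 :=
  toS.liftOfSurjective toS_surjective ⟨psi, fun g hg => MonoidHom.mem_ker.2 (toS_ker (MonoidHom.mem_ker.1 hg))⟩

theorem psiS_toS (g : cC) : psiS (toS g) = psi g := MonoidHom.liftOfRightInverse_comp_apply _ _ _ _ g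

/-- The kernel. -/
noncomputable abbrev qS : Subgroup cS := psiS.ker

theorem toS_gA : toS ⟨gA, gA_cC⟩ = 1 := by
  refine Subtype.ext ?_
  show QuotientGroup.mk' Ng (incl ⟨gA, gA_cC⟩) = 1
  rw [QuotientGroup.mk'_apply, QuotientGroup.eq_one_iff]
  exact mem_zpowers α

theorem qS_eq : qS = Rc.map toS := by
  refine le_antisymm (fun x hx => ?_) ?_
  · obtain ⟨g, rfl⟩ := toS_surjective x
    rw [MonoidHom.mem_ker, psiS_toS] at hx
    obtain ⟨r, hr, k, rfl⟩ := ker_psi hx
    exact ⟨r, hr, by rw [map_mul, map_pow, toS_gA, one_pow, mul_one]⟩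
  · rintro _ ⟨r, hr, rfl⟩
    rw [MonoidHom.mem_ker, psiS_toS]
    exact psi_Rc hr

theorem toS_inj {r : cC} (hr : r ∈ Rc) (h : toS r = 1) : r = 1 := by
  have h' : QuotientGroup.mk' Ng (incl r) = 1 := congrArg Subtype.val h
  rw [QuotientGroup.mk'_apply, QuotientGroup.eq_one_iff] at h'
  have hm : ((r : c1) : Spor.Co1) ∈ zpowers α := mem_subgroupOf.1 h'
  refine Subtype.ext (Subtype.ext ?_)
  refine orderOf_eq_one_iff.1 (Nat.eq_one_of_dvd_coprimes (show Nat.Coprime 128 3 by norm_num)
    ?_ (card_α ▸ Subgroup.orderOf_dvd_natCard _ hm))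
  rw [← card_Rc, Subgroup.orderOf_coe, Subgroup.orderOf_coe]
  exact Subgroup.orderOf_dvd_natCard _ hr

/-- The kernel is a copy of the kernel part. -/
noncomputable def qEquivS : Rc ≃* qS :=
  (MulEquiv.ofBijective ((toS.comp Rc.subtype).codRestrict (Rc.map toS) fun r => mem_map_of_mem _ r.2) (by
    constructor
    · refine (injective_iff_map_eq_one _).2 fun r hr => Subtype.ext (toS_inj r.2 (congrArg Subtype.val hr))
    · rintro ⟨_, r, hr, rfl⟩
      exact ⟨⟨r, hr⟩, rfl⟩)).trans (MulEquiv.subgroupCongr qS_eq.symm)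

theorem extraspecial_qS : Cfsg.IsExtraspecial 2 qS := by
  haveI := finite_c1
  exact LargeExtra.isExtraspecial_equiv qEquivS extraspecial_Rc

theorem card_qS : Nat.card qS = 128 := by rw [← Nat.card_congr qEquivS.toEquiv, card_Rc]

/-- The quotient by it. -/
noncomputable def quotS : cS ⧸ qS ≃* ↥(commutator (oGroup q6)) :=
  (QuotientGroup.quotientKerEquivRange psiS).trans (MulEquiv.subgroupCongr (by
    rw [← psi_range]
    ext y
    constructor
    · rintro ⟨x, rfl⟩
      obtain ⟨g, rfl⟩ := toS_surjective x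
      exact ⟨g, (psiS_toS g).symm⟩
    · rintro ⟨g, rfl⟩
      exact ⟨toS g, psiS_toS g⟩))

theorem cent_qS : centralizer (qS : Set cS) ≤ qS := by
  intro x hx
  obtain ⟨g, rfl⟩ := toS_surjective x
  rw [MonoidHom.mem_ker, psiS_toS, psi_apply]
  refine Subtype.ext (LinearEquiv.ext fun v => ?_)
  show ((theta g.1).1 (Sum.elim v 0)) ∘ Sum.inl = v
  have hcm := mem_centralizer_iff.1 hx _ (qS_eq ▸ mem_map_of_mem toS (E6_mem v))
  have hconj : g * E6 v * g⁻¹ ∈ Rc := by
    refine mem_subgroupOf.2 ?_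
    exact conj_mem g.1 (E_mem _)
  have hz : g * E6 v * g⁻¹ * (E6 v)⁻¹ = 1 := toS_inj (mul_mem hconj (inv_mem (E6_mem v))) (by
    rw [map_mul, map_mul, map_mul, map_inv, map_inv, ← hcm]; group)
  have he : (g.1 * E (Sum.elim v 0) * g.1⁻¹ : c1) = E (Sum.elim v 0) :=
    congrArg Subtype.val (mul_inv_eq_one.1 hz)
  conv_lhs => rw [← crd_E (Sum.elim v (0 : I2 → ZMod 2)), theta_crd g.1 (E_mem _), he, crd_E]
  exact Sum.elim_comp_inl _ _

theorem finite_cS : Finite cS := by
  haveI := finite_c1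
  exact Finite.of_surjective _ toS_surjective

theorem fstar : Cfsg.generalizedFittingSubgroup cS = qS := by
  haveI := finite_cS
  haveI := finite_c1
  haveI : Fact (Nat.Prime 2) := ⟨Nat.prime_two⟩
  have hQp : IsPGroup 2 qS := IsPGroup.of_card (n := 7) (by rw [card_qS]; norm_num)
  have hle : qS ≤ Cfsg.pCore 2 cS := Solvable.le_pCore (p := 2) inferInstance hQp
  have hchar : CharP.HasCharP 2 cS := fun x hx =>
    hle (cent_qS (centralizer_le (show (qS : Set cS) ⊆ _ from hle) hx))
  rw [hchar.Fstar_eq]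
  refine le_antisymm ?_ hle
  haveI := simple6
  haveI : IsSimpleGroup (cS ⧸ qS) := quotS.isSimpleGroup
  haveI : (Cfsg.pCore 2 cS).Normal := Solvable.pCore_normal 2
  rcases ((inferInstance : (Cfsg.pCore 2 cS).Normal).map (QuotientGroup.mk' qS)
    (QuotientGroup.mk'_surjective qS)).eq_bot_or_eq_top with h | h
  · rw [Subgroup.map_eq_bot_iff, QuotientGroup.ker_mk'] at h
    exact h
  · exfalso
    haveI : Finite ↥(commutator (oGroup q6)) := Nat.finite_of_card_ne_zero (by rw [card_omega6]; norm_num)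
    have hp := (Solvable.isPGroup_pCore (G := cS) 2).map (QuotientGroup.mk' qS)
    rw [h] at hp
    obtain ⟨n, hn⟩ := IsPGroup.iff_card.1 (hp.of_equiv (Subgroup.topEquiv.trans quotS))
    rw [card_omega6] at hn
    have h3 : 3 ∣ 2 ^ n := hn ▸ (by norm_num : 3 ∣ 25920)
    exact absurd (Nat.prime_three.dvd_of_dvd_pow h3) (by norm_num)

end CfsgLib.SuzSection
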